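import Groth.Agent.OTLib.Deligne
import Groth.Prelude.Def_CartDual
import Mathlib.RingTheory.Flat.LocallyFree

/-!
# Finite projective modules: dual frames, the rank of the dual, modules of rank one
-/

namespace Groth.Agent.OTLib

open TensorProduct WithConv

universe u v

variable {R : Type u} [CommRing R] {M : Type v} [AddCommGroup M] [Module R M]
  [Module.Finite R M] [Module.Projective R M]

variable (R M) in
/-- A finite projective module has a finite dual frame. -/
theorem exists_dualFrame :
    ∃ (n : ℕ) (a : Fin n → M) (φ : Fin n → M →ₗ[R] R), ∀ x, ∑ i, φ i x • a i = x := by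
  obtain ⟨n, f, hf⟩ := Module.Finite.exists_fin' R M
  obtain ⟨g, hg⟩ := Module.projective_lifting_property f LinearMap.id hf
  refine ⟨n, fun i => f (Pi.single i 1), fun i => LinearMap.proj i ∘ₗ g, fun x => ?_⟩
  have hx := LinearMap.congr_fun hg x
  simp only [LinearMap.comp_apply, LinearMap.id_apply] at hx
  simp only [LinearMap.comp_apply, LinearMap.proj_apply, ← map_smul, ← map_sum]
  conv_rhs => rw [← hx]
  congr 1
  funext j
  simp [Finset.sum_apply, Pi.single_apply]

variable (S : Type u) [CommRing S] [Algebra R S]

/-- Duals commute with base change. -/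
noncomputable def dualBaseChange : S ⊗[R] Module.Dual R M →ₗ[S] Module.Dual S (S ⊗[R] M) :=
  LinearMap.liftBaseChange S
    { toFun := fun φ => LinearMap.liftBaseChange S (Algebra.linearMap R S ∘ₗ φ)
      map_add' := fun φ ψ => by ext; simp
      map_smul' := fun c φ => by ext; simp [Algebra.smul_def] }

theorem dualBaseChange_bijective : Function.Bijective (dualBaseChange (R := R) (M := M) S) := by
  obtain ⟨n, a, φ, hframe⟩ := exists_dualFrame R M
  let inv : Module.Dual S (S ⊗[R] M) → S ⊗[R] Module.Dual R M := fun g =>
    ∑ i, g ((1 : S) ⊗ₜ[R] a i) ⊗ₜ[R] φ i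
  refine Function.bijective_iff_has_inverse.2 ⟨inv, fun z => ?_, fun g => ?_⟩
  · induction z using TensorProduct.induction_on with
    | zero => simp [inv]
    | add y y' hy hy' =>
      simp only [inv, map_add, LinearMap.add_apply, add_tmul, Finset.sum_add_distrib] at hy hy' ⊢
      rw [hy, hy']
    | tmul s ψ =>
      simp only [inv, dualBaseChange, LinearMap.liftBaseChange_tmul, LinearMap.smul_apply, LinearMap.coe_mk,
        AddHom.coe_mk, LinearMap.coe_comp, Function.comp_apply, Algebra.linearMap_apply, smul_eq_mul,
        one_mul]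
      simp only [mul_comm s]
      simp only [← Algebra.smul_def, smul_tmul, ← tmul_sum]
      congr 1
      refine LinearMap.ext fun x => ?_
      simp only [LinearMap.sum_apply, LinearMap.smul_apply, smul_eq_mul]
      conv_rhs => rw [← hframe x, map_sum]
      exact Finset.sum_congr rfl fun i _ => by rw [map_smul, smul_eq_mul, mul_comm]
  · refine TensorProduct.AlgebraTensorModule.curry_injective (LinearMap.ext_ring (LinearMap.ext fun x => ?_))
    simp only [inv, dualBaseChange, map_sum, LinearMap.liftBaseChange_tmul, LinearMap.coe_mk, AddHom.coe_mk,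
      TensorProduct.AlgebraTensorModule.curry_apply, TensorProduct.curry_apply, LinearMap.coe_restrictScalars,
      LinearMap.sum_apply, LinearMap.smul_apply, LinearMap.coe_comp, Function.comp_apply,
      Algebra.linearMap_apply, smul_eq_mul]
    conv_rhs => rw [← hframe x, tmul_sum, map_sum]
    refine Finset.sum_congr rfl fun i _ => ?_
    rw [tmul_smul, LinearMap.map_smul_of_tower, Algebra.smul_def, one_mul, mul_comm]

variable (R M) in
/-- The dual of a finite projective module has the same rank. -/
theorem rankAtStalk_dual (q : PrimeSpectrum R) :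
    Module.rankAtStalk (R := R) (Module.Dual R M) q = Module.rankAtStalk (R := R) M q := by
  let S := Localization.AtPrime q.asIdeal
  have : Module.Free S (S ⊗[R] M) := Module.free_of_flat_of_isLocalRing
  rw [Module.rankAtStalk_eq_finrank_tensorProduct, Module.rankAtStalk_eq_finrank_tensorProduct,
    (LinearEquiv.ofBijective _ (dualBaseChange_bijective (R := R) (M := M) S)).finrank_eq,
    Module.finrank_linearMap_self]

variable (hM : ∀ q : PrimeSpectrum R, Module.rankAtStalk (R := R) M q = 1)
include hM

theorem exists_generator_localization (P : Ideal R) [P.IsMaximal] :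
    ∃ g : Localization.AtPrime P ⊗[R] M,
      (∀ z, ∃ c : Localization.AtPrime P, z = c • g) ∧ ∀ c : Localization.AtPrime P, c • g = 0 → c = 0 := by
  obtain ⟨hf, hr⟩ := rankAtStalk_localization (M := M) 1 hM (Localization.AtPrime P)
  let b := (Module.Free.chooseBasis (Localization.AtPrime P) (Localization.AtPrime P ⊗[R] M)).reindex
    (Fintype.equivFinOfCardEq (by rw [← Module.finrank_eq_card_chooseBasisIndex, hr]))
  refine ⟨b 0, fun z => ⟨b.repr z 0, ?_⟩, fun c hc => ?_⟩
  · conv_lhs => rw [← b.sum_repr z]
    simp
  · simpa using congrArg (fun z => b.repr z 0) hc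

/-- In a module of rank one, `φ(y) x = φ(x) y`. -/
theorem dual_swap (φ : M →ₗ[R] R) (x y : M) : φ y • x = φ x • y := by
  refine sub_eq_zero.1 (eq_zero_of_forall_localization (R := R) _ fun P hP => ?_)
  obtain ⟨g, hg, -⟩ := exists_generator_localization hM P
  obtain ⟨a, ha⟩ := hg (1 ⊗ₜ x)
  obtain ⟨b, hb⟩ := hg (1 ⊗ₜ y)
  let L := dualBaseChange (R := R) (M := M) (Localization.AtPrime P) (1 ⊗ₜ φ)
  have hL : ∀ z : M, L ((1 : Localization.AtPrime P) ⊗ₜ[R] z) = algebraMap R _ (φ z) := fun z => by
    simp [L, dualBaseChange]
  rw [tmul_sub, sub_eq_zero, tmul_smul, tmul_smul, ← algebraMap_smul (Localization.AtPrime P) (φ y),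
    ← algebraMap_smul (Localization.AtPrime P) (φ x), ← hL, ← hL, ha, hb, map_smul, map_smul,
    smul_smul, smul_smul, smul_eq_mul, smul_eq_mul]
  congr 1
  ring

/-- A module of rank one is faithful. -/
theorem eq_zero_of_smul_eq_zero {r : R} (hr : ∀ x : M, r • x = 0) : r = 0 := by
  refine eq_zero_of_localization _ fun P hP => ?_
  have := hP
  obtain ⟨g, -, hg⟩ := exists_generator_localization hM P
  refine hg _ ?_
  clear hg
  induction g using TensorProduct.induction_on with
  | zero => rw [smul_zero]
  | add y y' hy hy' => rw [smul_add, hy, hy', add_zero]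
  | tmul s x =>
    rw [algebraMap_smul, TensorProduct.smul_tmul', smul_tmul, hr, tmul_zero]

theorem eq_zero_of_smul_generator {x : M} (hx : Submodule.span R {x} = ⊤) {r : R} (hr : r • x = 0) : r = 0 :=
  eq_zero_of_smul_eq_zero hM fun y => by
    obtain ⟨c, rfl⟩ := Submodule.mem_span_singleton.1 (hx.symm ▸ Submodule.mem_top (x := y))
    rw [smul_comm, hr, smul_zero]

end Groth.Agent.OTLib
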