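import Groth.Agent.OTLib.Basic
import Groth.Agent.FinHopf.BaseChange

/-!
# Group schemes of prime order over an algebraically closed field

Either all `p` points are there, or the algebra is local; in both cases the dual algebra is
generated by one element and each eigenspace of the augmentation ideal is a line.
-/

namespace Groth.Agent.OTLib

open TensorProduct WithConv Coalgebra

universe u v

section Structure

variable {k : Type u} [Field k] [IsAlgClosed k] {A : Type v} [CommRing A] [HopfAlgebra k A]
  [Module.Finite k A] {p : ℕ}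

theorem points_or_local (hp : p.Prime) (hdim : Module.finrank k A = p) :
    Nat.card (WithConv (A →ₐ[k] k)) = p ∨
      ∀ a : A, counit (R := k) a = 0 → IsNilpotent a := by
  obtain ⟨d⟩ := FinHopf.exists_decomp (k := k) (A := A)
  have := d.pts
  have h := d.dim
  rw [hdim] at h
  rcases hp.eq_one_or_self_of_dvd _ (Dvd.intro _ h.symm) with h1 | h1
  · right
    have hsub : Subsingleton (WithConv (A →ₐ[k] k)) := (Nat.card_eq_one_iff_unique.1 h1).1
    have he : d.e = 0 := IsIdempotentElem.eq_zero_of_isNilpotent d.idem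
      (d.detect _ fun g => by
        rw [show g = (1 : WithConv (A →ₐ[k] k)).ofConv from
          congrArg WithConv.ofConv (hsub.elim (toConv g) 1)]
        simpa using d.eps_e)
    intro a ha
    obtain ⟨m, hm⟩ := d.nil a (by simpa using ha)
    rw [he, Ideal.span_singleton_eq_bot.2 rfl, Ideal.mem_bot] at hm
    exact ⟨m, hm⟩
  · exact Or.inl h1

omit [IsAlgClosed k] in
theorem exists_point_basis (hp : p.Prime) (hdim : Module.finrank k A = p)
    (hcard : Nat.card (WithConv (A →ₐ[k] k)) = p) :
    ∃ g : WithConv (A →ₐ[k] k), g ^ p = 1 ∧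
      LinearIndependent k (fun j : Fin p => (g ^ (j : ℕ)).ofConv.toLinearMap) ∧
      Submodule.span k (Set.range fun j : Fin p => (g ^ (j : ℕ)).ofConv.toLinearMap) = ⊤ := by
  have : Finite (WithConv (A →ₐ[k] k)) := Nat.finite_of_card_ne_zero (by rw [hcard]; exact hp.ne_zero)
  have : Nontrivial (WithConv (A →ₐ[k] k)) := Finite.one_lt_card_iff_nontrivial.1 (hcard ▸ hp.one_lt)
  obtain ⟨g, hg⟩ := exists_ne (1 : WithConv (A →ₐ[k] k))
  have hord : orderOf g = p := by
    have := hp.eq_one_or_self_of_dvd _ (hcard ▸ orderOf_dvd_natCard g)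
    exact this.resolve_left fun h => hg (orderOf_eq_one_iff.1 h)
  have hinj : Function.Injective fun j : Fin p => (g ^ (j : ℕ)).ofConv := fun i j h =>
    Fin.ext (pow_injOn_Iio_orderOf (by simp [hord, i.2]) (by simp [hord, j.2])
      (WithConv.ofConv_injective h))
  have hli := (linearIndependent_algHom_toLinearMap k A k).comp _ hinj
  have : NeZero p := ⟨hp.ne_zero⟩
  refine ⟨g, hord ▸ pow_orderOf_eq_one g, hli, hli.span_eq_top_of_card_eq_finrank ?_⟩
  rw [Fintype.card_fin, Module.finrank_linearMap_self, hdim]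

/-- A local algebra: a counit derivation. -/
theorem exists_counit_derivation (hp : p.Prime) (hdim : Module.finrank k A = p)
    (hloc : ∀ a : A, counit (R := k) a = 0 → IsNilpotent a) :
    (p : k) = 0 ∧ ∃ (φ : A →ₗ[k] k) (x : A), counit (R := k) x = 0 ∧ φ x = 1 ∧
      ∀ a b, φ (a * b) = φ a * counit (R := k) b + counit (R := k) a * φ b := by
  let ε := Bialgebra.counitAlgHom k A
  let I : Ideal A := RingHom.ker ε
  have hI0 : I ≠ ⊥ := by
    intro h
    have hinj : Function.Injective ε := (RingHom.injective_iff_ker_eq_bot ε).2 h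
    have := LinearMap.finrank_le_finrank_of_injective (f := ε.toLinearMap) hinj
    rw [hdim, Module.finrank_self] at this
    exact absurd this (not_le.2 hp.one_lt)
  refine ⟨?_, ?_⟩
  · by_contra hp0
    have := FinHopf.isReduced_of_isAlgClosed (k := k) (A := A) (by rwa [hdim])
    exact hI0 (eq_bot_iff.2 fun a ha => (hloc a ha).eq_zero)
  have : IsNoetherianRing A := isNoetherian_of_tower k inferInstance
  obtain ⟨N, hN⟩ : IsNilpotent I :=
    (Ideal.FG.isNilpotent_iff_le_nilradical (IsNoetherian.noetherian I)).2 fun a ha => hloc a ha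
  have hII : ¬ I ≤ I * I := fun h => hI0 (eq_bot_iff.2 (by
    have key : ∀ n, I ≤ I ^ n := fun n => by
      induction n with
      | zero => rw [pow_zero, Ideal.one_eq_top]; exact le_top
      | succ n ih => rw [pow_succ]; exact h.trans (Ideal.mul_mono_left ih)
    exact (key N).trans (le_of_eq hN)))
  obtain ⟨x, hxI, hx⟩ := SetLike.not_le_iff_exists.1 hII
  let M : Submodule k A := (I * I).restrictScalars k ⊔ Submodule.span k {1}
  have hxM : x ∉ M := fun h => by
    obtain ⟨w, hw, z, hz, hwz⟩ := Submodule.mem_sup.1 h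
    obtain ⟨c, rfl⟩ := Submodule.mem_span_singleton.1 hz
    have hc : c = 0 := by
      have := congrArg ε hwz
      rw [map_add, map_smul, map_one, RingHom.mem_ker.1 (Ideal.mul_le_left hw),
        RingHom.mem_ker.1 hxI, zero_add, smul_eq_mul, mul_one] at this
      exact this
    subst hc
    rw [zero_smul, add_zero] at hwz
    exact hx (hwz ▸ hw)
  obtain ⟨φ, hφx, hφM⟩ := Submodule.exists_dual_map_eq_bot_of_notMem hxM inferInstance
  refine ⟨(φ x)⁻¹ • φ, x, hxI, by simp [hφx], fun a b => ?_⟩
  have h0 : ∀ m ∈ M, φ m = 0 := fun m hm => by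
    have : φ m ∈ M.map φ := ⟨m, hm, rfl⟩
    rwa [hφM, Submodule.mem_bot] at this
  have h1 : φ 1 = 0 := h0 1 (Submodule.mem_sup_right (Submodule.mem_span_singleton_self _))
  have h := h0 ((a - algebraMap k A (ε a)) * (b - algebraMap k A (ε b)))
    (Submodule.mem_sup_left (Ideal.mul_mem_mul (by simp [I]) (by simp [I])))
  have he : (a - algebraMap k A (ε a)) * (b - algebraMap k A (ε b))
      = a * b - ε a • b - ε b • a + (ε a * ε b) • (1 : A) := by
    simp only [Algebra.smul_def, map_mul, mul_one]; ring
  rw [he, map_add, map_sub, map_sub, map_smul, map_smul, map_smul, h1] at h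
  simp only [smul_eq_mul, mul_zero, add_zero, LinearMap.smul_apply, ε,
    Bialgebra.counitAlgHom_apply] at h ⊢
  linear_combination (φ x)⁻¹ * h

/-- `a ↦ Σ φ(a₂) a₁`. -/
noncomputable def deriv (φ : A →ₗ[k] k) : A →ₗ[k] A :=
  (TensorProduct.rid k A).toLinearMap ∘ₗ φ.lTensor A ∘ₗ comul

omit [IsAlgClosed k] [Module.Finite k A] in
theorem conv_apply_eq (ψ : WithConv (A →ₗ[k] k)) (φ : A →ₗ[k] k) (a : A) :
    (ψ * toConv φ) a = ψ (deriv φ a) := by
  simp only [LinearMap.convMul_apply, deriv, LinearMap.comp_apply, LinearEquiv.coe_coe]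
  generalize comul (R := k) a = z
  induction z using TensorProduct.induction_on with
  | zero => simp
  | add p q hp hq => simp only [map_add, hp, hq]
  | tmul p q => simp [mul_comm]

omit [IsAlgClosed k] [Module.Finite k A] in
theorem deriv_mul (φ : A →ₗ[k] k)
    (hφ : ∀ a b, φ (a * b) = φ a * counit (R := k) b + counit (R := k) a * φ b) (a b : A) :
    deriv φ (a * b) = deriv φ a * b + a * deriv φ b := by
  have hc : ∀ c : A, TensorProduct.rid k A ((counit (R := k)).lTensor A (comul c)) = c := fun c => by
    have h := LinearMap.congr_fun (Coalgebra.lTensor_counit_comp_comul (R := k) (A := A)) c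
    simp only [LinearMap.comp_apply] at h
    rw [h]; simp
  have key : ∀ z w : A ⊗[k] A, TensorProduct.rid k A (φ.lTensor A (z * w)) =
      TensorProduct.rid k A (φ.lTensor A z) * TensorProduct.rid k A ((counit (R := k)).lTensor A w) +
      TensorProduct.rid k A ((counit (R := k)).lTensor A z) * TensorProduct.rid k A (φ.lTensor A w) := by
    intro z w
    induction z using TensorProduct.induction_on with
    | zero => simp
    | add p q hp hq => simp only [map_add, add_mul, hp, hq]; ring
    | tmul p q =>
      induction w using TensorProduct.induction_on with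
      | zero => simp
      | add p q hp hq => simp only [map_add, mul_add, hp, hq]; ring
      | tmul r s =>
        simp only [Algebra.TensorProduct.tmul_mul_tmul, LinearMap.lTensor_tmul, TensorProduct.rid_tmul,
          hφ, Algebra.smul_def, map_add, map_mul]
        ring
  simp only [deriv, LinearMap.comp_apply, LinearEquiv.coe_coe, Bialgebra.comul_mul, key, hc]

variable {φ : A →ₗ[k] k} {x : A}

omit [IsAlgClosed k] [Module.Finite k A] in
theorem deriv_pow (hφ : ∀ a b, φ (a * b) = φ a * counit (R := k) b + counit (R := k) a * φ b)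
    (n : ℕ) : deriv φ (x ^ (n + 1)) = ((n + 1 : ℕ) : A) * x ^ n * deriv φ x := by
  induction n with
  | zero => simp
  | succ n ih =>
    rw [pow_succ x (n + 1), deriv_mul φ hφ, ih]
    push_cast
    ring

omit [IsAlgClosed k] [Module.Finite k A] in
theorem pow_apply_pow (hφ : ∀ a b, φ (a * b) = φ a * counit (R := k) b + counit (R := k) a * φ b)
    (hx : counit (R := k) x = 0) (hφx : φ x = 1) (j : ℕ) (w : A) :
    (toConv φ ^ j) (x ^ j * w) = (j.factorial : k) * counit (R := k) w := by
  induction j generalizing w with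
  | zero => simp
  | succ j ih =>
    have hu : counit (R := k) (deriv φ x) = 1 := by
      have := conv_apply_eq (k := k) (toConv (counit (R := k) (A := A))) φ x
      rw [show toConv (counit (R := k) (A := A)) = 1 from (WithConv.ext (LinearMap.ext fun a => by simp)),
        one_mul] at this
      simpa [hφx] using this.symm
    rw [pow_succ, conv_apply_eq, deriv_mul φ hφ, deriv_pow hφ, show
      ((j + 1 : ℕ) : A) * x ^ j * deriv φ x * w + x ^ (j + 1) * deriv φ w =
        x ^ j * (((j + 1 : ℕ) : A) * deriv φ x * w + x * deriv φ w) by ring, ih, map_add]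
    simp only [Bialgebra.counit_mul, hx, hu, zero_mul, add_zero, mul_one, Bialgebra.counit_natCast]
    rw [Nat.factorial_succ, Nat.cast_mul]
    ring

omit [IsAlgClosed k] [Module.Finite k A] in
theorem pow_apply_pow_eq_zero (hφ : ∀ a b, φ (a * b) = φ a * counit (R := k) b + counit (R := k) a * φ b)
    (hx : counit (R := k) x = 0) (hφx : φ x = 1) {i j : ℕ} (h : j < i) :
    (toConv φ ^ j) (x ^ i) = 0 := by
  obtain ⟨c, rfl⟩ : ∃ c, i = j + (c + 1) := ⟨i - j - 1, by omega⟩
  rw [pow_add, pow_apply_pow hφ hx hφx, pow_succ, Bialgebra.counit_mul, hx, mul_zero, mul_zero]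

omit [IsAlgClosed k] [Module.Finite k A] in
theorem linearIndependent_pows (hp : p.Prime) (hp0 : (p : k) = 0)
    (hφ : ∀ a b, φ (a * b) = φ a * counit (R := k) b + counit (R := k) a * φ b)
    (hx : counit (R := k) x = 0) (hφx : φ x = 1) :
    LinearIndependent k (fun j : Fin p => x ^ (j : ℕ)) ∧
      LinearIndependent k (fun j : Fin p => (toConv φ ^ (j : ℕ) : WithConv (A →ₗ[k] k))) := by
  have := Fact.mk hp
  classical
  have : CharP k p := (CharP.charP_iff_prime_eq_zero hp).2 hp0
  have hfac : ∀ j : Fin p, ((j : ℕ).factorial : k) ≠ 0 := fun j h => by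
    rw [CharP.cast_eq_zero_iff k p, hp.dvd_factorial] at h
    exact absurd h (not_le.2 j.2)
  constructor
  · rw [Fintype.linearIndependent_iff]
    intro c hc
    by_contra! hne
    obtain ⟨i, hi, hmin⟩ := (Finset.univ.filter fun i => c i ≠ 0).exists_min_image (fun i => i)
      (hne.elim fun i hi => ⟨i, by simp [hi]⟩)
    rw [Finset.mem_filter] at hi
    have h := congrArg (fun a => (toConv φ ^ (i : ℕ)) a) hc
    simp only [map_sum, map_smul, map_zero] at h
    rw [Finset.sum_eq_single i (fun j _ hj => ?_) (by simp)] at h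
    · rw [show x ^ (i : ℕ) = x ^ (i : ℕ) * 1 from (mul_one _).symm, pow_apply_pow hφ hx hφx] at h
      exact hi.2 (by simpa [hfac i] using h)
    · rcases lt_or_gt_of_ne hj with h' | h'
      · have : c j = 0 := by
          by_contra hcj
          exact absurd (hmin j (by simp [hcj])) (not_le.2 h')
        rw [this, zero_smul]
      · rw [pow_apply_pow_eq_zero hφ hx hφx h', smul_zero]
  · rw [Fintype.linearIndependent_iff]
    intro c hc
    by_contra! hne
    obtain ⟨i, hi, hmax⟩ := (Finset.univ.filter fun i => c i ≠ 0).exists_max_image (fun i => i)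
      (hne.elim fun i hi => ⟨i, by simp [hi]⟩)
    rw [Finset.mem_filter] at hi
    have h := congrArg (fun f : WithConv (A →ₗ[k] k) => f (x ^ (i : ℕ))) hc
    simp only [WithConv.ofConv_sum, LinearMap.sum_apply, WithConv.ofConv_smul, LinearMap.smul_apply,
      WithConv.ofConv_zero, LinearMap.zero_apply] at h
    rw [Finset.sum_eq_single i (fun j _ hj => ?_) (by simp)] at h
    · rw [show x ^ (i : ℕ) = x ^ (i : ℕ) * 1 from (mul_one _).symm, pow_apply_pow hφ hx hφx] at h
      exact hi.2 (by simpa [hfac i] using h)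
    · rcases lt_or_gt_of_ne hj with h' | h'
      · rw [pow_apply_pow_eq_zero hφ hx hφx h', smul_zero]
      · have : c j = 0 := by
          by_contra hcj
          exact absurd (hmax j (by simp [hcj])) (not_le.2 h')
        rw [this, zero_smul]

/-- The dual algebra of a group scheme of prime order is generated by one element. -/
theorem exists_dual_generator (hp : p.Prime) (hdim : Module.finrank k A = p) :
    ∃ φ : WithConv (A →ₗ[k] k),
      Submodule.span k (Set.range fun j : Fin p => (φ ^ (j : ℕ)).ofConv) = ⊤ := by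
  have : NeZero p := ⟨hp.ne_zero⟩
  rcases points_or_local hp hdim with h | h
  · obtain ⟨g, -, -, hspan⟩ := exists_point_basis hp hdim h
    refine ⟨toConv g.ofConv.toLinearMap, top_unique (hspan.ge.trans (le_of_eq ?_))⟩
    congr 2
    funext j
    rw [← AlgHom.toLinearMap_convPow]
  · obtain ⟨hp0, φ, x, hx, hφx, hφ⟩ := exists_counit_derivation hp hdim h
    have hli := ((linearIndependent_pows hp hp0 hφ hx hφx).2.map'
      (WithConv.linearEquiv k (A →ₗ[k] k)).toLinearMap (LinearEquiv.ker _))
    exact ⟨toConv φ, hli.span_eq_top_of_card_eq_finrank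
      (by rw [Fintype.card_fin, Module.finrank_linearMap_self, hdim])⟩

end Structure

section Eigen

variable {k : Type u} [Field k] [IsAlgClosed k] {A : Type u} [CommRing A] [HopfAlgebra k A]
  [Module.Finite k A] {p : ℕ} [hp' : Fact p.Prime] {χ : (ZMod p)ˣ →* kˣ}

/-- Each eigenspace of the augmentation ideal is a line spanned by a power of one element. -/
theorem exists_eigen_generator {u : k} (hu : u * ((p - 1 : ℕ) : k) = 1)
    (hχ : ∀ m : (ZMod p)ˣ, m ≠ 1 → IsUnit ((χ m : k) - 1))
    (hχp : ∀ m : (ZMod p)ˣ, ((χ m : kˣ) : k) - (((m : ZMod p).val : ℕ) : k) ∈ Ideal.span ({(p : k)} : Set k))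
    (hdim : Module.finrank k A = p) :
    ∃ x ∈ OortTate.eigenAug k A p χ 1, ∀ t, 1 ≤ t → t ≤ p - 1 → x ^ t ≠ 0 ∧
      OortTate.eigenAug k A p χ t ≤ Submodule.span k {x ^ t} := by
  have hp := hp'.out
  have hid : toConv (AlgHom.id k A) ^ p = 1 := by
    rw [← hdim]; exact FinHopf.pow_finrank_eq_one
  have hval : ∀ m : (ZMod p)ˣ, (m : ZMod p).val ≠ 0 := fun m h =>
    m.ne_zero (ZMod.val_eq_zero _ |>.1 h)
  rcases points_or_local hp hdim with h | h
  · obtain ⟨g, hg, hli, hspan⟩ := exists_point_basis hp hdim h
    have hval' : ∀ n (a : A), (g ^ (n % p)).ofConv a = (g ^ n).ofConv a := fun n a => by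
      rw [← pow_eq_pow_mod n hg]
    let Φ : A →ₗ[k] (Fin p → k) := LinearMap.pi fun j => (g ^ (j : ℕ)).ofConv.toLinearMap
    have hinj : Function.Injective Φ := fun a b hab => by
      refine sub_eq_zero.1 ((Module.forall_dual_apply_eq_zero_iff k _).1 fun ψ => ?_)
      have : ψ ∈ (⊤ : Submodule k (A →ₗ[k] k)) := trivial
      rw [← hspan] at this
      refine Submodule.span_induction (fun f hf => ?_) (by simp) (fun f f' _ _ h1 h2 => by simp [h1, h2])
        (fun c f _ h1 => by simp [h1]) this
      obtain ⟨j, rfl⟩ := hf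
      have := congrFun hab j
      change (g ^ (j : ℕ)).ofConv a = (g ^ (j : ℕ)).ofConv b at this
      simp [this]
    have hsurj : Function.Surjective Φ :=
      (LinearMap.injective_iff_surjective_of_finrank_eq_finrank (by rw [hdim, Module.finrank_fin_fun])).1 hinj
    let v : ZMod p → k := fun z => if hz : z = 0 then 0 else ((χ (Units.mk0 z hz) : kˣ) : k)
    obtain ⟨x, hx⟩ := hsurj fun j => v ((j : ℕ) : ZMod p)
    have hxn : ∀ n : ℕ, (g ^ n).ofConv x = v (n : ZMod p) := fun n => by
      rw [← hval' n]
      have := congrFun hx ⟨n % p, Nat.mod_lt _ hp.pos⟩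
      simpa [Φ, ZMod.natCast_mod] using this
    have heps : ∀ a : A, (g ^ 0).ofConv a = counit (R := k) a := fun a => by simp
    have hact : ∀ (n m : ℕ) (a : A), (g ^ n).ofConv (SGA3b.powConv k A m a) = (g ^ (n * m)).ofConv a := by
      intro n m a
      rw [pow_mul, ← AlgHom.comp_apply]
      exact congrArg (fun f : WithConv (A →ₐ[k] k) => f.ofConv a) (comp_powConv (g ^ n).ofConv m)
    have hxI : x ∈ OortTate.eigenAug k A p χ 1 := by
      refine mem_eigenAug.2 ⟨by rw [← heps, hxn]; simp [v], fun m => hinj (funext fun j => ?_)⟩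
      change (g ^ (j : ℕ)).ofConv _ = (g ^ (j : ℕ)).ofConv _
      rw [hact, hxn, map_smul, hxn, smul_eq_mul, pow_one, Nat.cast_mul, ZMod.natCast_zmod_val]
      by_cases hj : ((j : ℕ) : ZMod p) = 0
      · simp [v, hj]
      · simp only [v, dif_neg hj, dif_neg (mul_ne_zero hj m.ne_zero)]
        rw [← Units.val_mul, ← map_mul]
        congr 2
        exact Units.ext (mul_comm _ _)
    refine ⟨x, hxI, fun t ht _ => ?_⟩
    have hgx : (g ^ 1).ofConv x = 1 := by
      rw [hxn, Nat.cast_one]
      simp [v, one_ne_zero, show Units.mk0 (1 : ZMod p) one_ne_zero = 1 from Units.ext rfl]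
    refine ⟨fun h0 => ?_, fun f hf => Submodule.mem_span_singleton.2 ⟨(g ^ 1).ofConv f, ?_⟩⟩
    · have := congrArg (g ^ 1).ofConv h0
      rw [map_pow, hgx, one_pow, map_zero] at this
      exact one_ne_zero this
    refine hinj (funext fun j => ?_)
    change (g ^ (j : ℕ)).ofConv _ = (g ^ (j : ℕ)).ofConv _
    rw [map_smul, map_pow, hxn, smul_eq_mul]
    by_cases hj : ((j : ℕ) : ZMod p) = 0
    · have hj0 : (j : ℕ) = 0 := by
        have := congrArg ZMod.val hj
        rwa [ZMod.val_natCast, Nat.mod_eq_of_lt j.2, ZMod.val_zero] at this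
      simp only [v, dif_pos hj, zero_pow (by omega : t ≠ 0), mul_zero]
      rw [hj0, heps, (mem_eigenAug.1 hf).1]
    · have h2 : (g ^ (j : ℕ)).ofConv f = (g ^ 1).ofConv (SGA3b.powConv k A
          ((Units.mk0 _ hj : (ZMod p)ˣ) : ZMod p).val f) := by
        rw [hact, one_mul, Units.val_mk0, ZMod.val_natCast, hval']
      rw [h2, (mem_eigenAug.1 hf).2, map_smul, smul_eq_mul]
      simp only [v, dif_neg hj]
      ring
  · obtain ⟨hp0, φ, x0, hx0, hφx0, hφ⟩ := exists_counit_derivation hp hdim h
    have hχm : ∀ m : (ZMod p)ˣ, ((χ m : kˣ) : k) = (((m : ZMod p).val : ℕ) : k) := fun m => by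
      have := hχp m
      rwa [hp0, Ideal.span_singleton_eq_bot.2 rfl, Ideal.mem_bot, sub_eq_zero] at this
    have hφn : ∀ (n : ℕ) (a : A), φ (SGA3b.powConv k A n a) = (n : k) * φ a := by
      intro n
      induction n with
      | zero =>
        intro a
        have h1 : φ 1 = 0 := by simpa using hφ 1 1
        simp [SGA3b.powConv, Algebra.algebraMap_eq_smul_one, h1]
      | succ n ih =>
        intro a
        rw [Nat.cast_succ, add_one_mul, SGA3b.powConv, pow_succ, AlgHom.convMul_apply,
          ← (ℛ k a).eq]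
        simp only [map_sum, Algebra.TensorProduct.lift_tmul, hφ, AlgHom.id_apply]
        rw [Finset.sum_add_distrib]
        simp only [show ∀ b, φ ((toConv (AlgHom.id k A) ^ n).ofConv b) = (n : k) * φ b from ih,
          show ∀ b, counit (R := k) ((toConv (AlgHom.id k A) ^ n).ofConv b) = counit (R := k) b from
            counit_powConv n]
        congr 1
        · conv_rhs => rw [← show ∑ i ∈ (ℛ k a).index, counit (R := k) ((ℛ k a).right i) • (ℛ k a).left i = a by
            have h := congrArg (TensorProduct.rid k A) (sum_tmul_counit_eq (R := k) (ℛ k a))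
            simp only [map_sum, TensorProduct.rid_tmul, one_smul] at h
            exact h]
          rw [map_sum, Finset.mul_sum]
          exact Finset.sum_congr rfl fun i _ => by rw [map_smul, smul_eq_mul]; ring
        · conv_rhs => rw [← Coalgebra.sum_counit_smul (ℛ k a), map_sum]
          exact Finset.sum_congr rfl fun i _ => by rw [map_smul, smul_eq_mul]
    set x := OortTate.proj k A p u χ 1 x0
    have hxI : x ∈ OortTate.eigenAug k A p χ 1 := proj_mem hid 1 hx0
    have hx := (mem_eigenAug.1 hxI).1
    have hφx : φ x = 1 := by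
      simp only [x, OortTate.proj, LinearMap.smul_apply, LinearMap.sum_apply, AlgHom.toLinearMap_apply,
        map_smul, map_sum, hφn, hφx0, mul_one, smul_eq_mul, pow_one]
      rw [Finset.sum_congr rfl fun m _ => show ((χ m⁻¹ : kˣ) : k) * (((m : ZMod p).val : ℕ) : k) = 1 by
        rw [← hχm, ← Units.val_mul, ← map_mul, inv_mul_cancel, map_one, Units.val_one]]
      rw [Finset.sum_const, Finset.card_univ, card_units_zmod, nsmul_eq_mul, mul_one, hu]
    obtain ⟨hli, -⟩ := linearIndependent_pows hp hp0 hφ hx hφx
    have : NeZero p := ⟨hp.ne_zero⟩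
    have hspan := hli.span_eq_top_of_card_eq_finrank (by rw [Fintype.card_fin, hdim])
    have hpow : ∀ (t : ℕ), 1 ≤ t → x ^ t ∈ OortTate.eigenAug k A p χ t := fun t ht =>
      pow_le_eigenAug t ht (Submodule.pow_mem_pow _ hxI t)
    refine ⟨x, hxI, fun t ht ht' => ⟨hli.ne_zero ⟨t, by omega⟩, fun f hf => ?_⟩⟩
    have hproj : ∀ a : A, OortTate.proj k A p u χ t (a - algebraMap k A (counit a)) ∈
        Submodule.span k {x ^ t} := by
      intro a
      have ha : a ∈ Submodule.span k (Set.range fun j : Fin p => x ^ (j : ℕ)) := hspan ▸ trivial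
      refine Submodule.span_induction (fun b hb => ?_) (by simp) (fun b c _ _ h1 h2 => ?_)
        (fun c b _ h1 => ?_) ha
      · obtain ⟨⟨j, hj⟩, rfl⟩ := hb
        rcases Nat.eq_zero_or_pos j with rfl | hj0
        · simp
        have hjI := hpow j hj0
        simp only [(mem_eigenAug.1 hjI).1, map_zero, sub_zero]
        by_cases hjt : j = t
        · subst hjt
          rw [proj_eq_self hu hjI]
          exact Submodule.mem_span_singleton_self _
        · rw [proj_eq_zero hχ ?_ hjI]
          · exact Submodule.zero_mem _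
          · intro hmod
            have h1 : (Nat.ModEq (p - 1) t j) := hmod
            rcases lt_or_gt_of_ne hjt with h2 | h2
            · have := Nat.le_of_dvd (by omega) ((Nat.modEq_iff_dvd' h2.le).1 h1.symm); omega
            · have := Nat.le_of_dvd (by omega) ((Nat.modEq_iff_dvd' h2.le).1 h1); omega
      · rw [map_add, map_add, add_sub_add_comm, map_add]
        exact Submodule.add_mem _ h1 h2
      · rw [map_smul, smul_eq_mul, map_mul, ← Algebra.smul_def, ← smul_sub, map_smul]
        exact Submodule.smul_mem _ _ h1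
    have h2 := hproj f
    rwa [(mem_eigenAug.1 hf).1, map_zero, sub_zero, proj_eq_self hu hf] at h2

end Eigen

end Groth.Agent.OTLib
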