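import Groth.Prelude.Def_W4c5ffgsreadingcourseOT
import Groth.Agent.FinHopf.Points
import Mathlib.RingTheory.IntegralDomain
import Mathlib.FieldTheory.Finite.Basic

/-!
# The power maps and the eigen decomposition of the augmentation ideal
-/

namespace Groth.Agent.OTLib

open TensorProduct WithConv Coalgebra

universe u

variable {R : Type u} [CommRing R] {A : Type u} [CommRing A] [HopfAlgebra R A]

theorem comp_powConv {B : Type*} [CommRing B] [Algebra R B] (h : A →ₐ[R] B) (n : ℕ) :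
    toConv (h.comp (SGA3b.powConv R A n)) = toConv h ^ n := by
  induction n with
  | zero =>
    apply WithConv.ext
    refine AlgHom.ext fun a => ?_
    simp [SGA3b.powConv]
  | succ n ih =>
    rw [pow_succ, ← ih, SGA3b.powConv, pow_succ, AlgHom.comp_convMul_distrib]
    simp [SGA3b.powConv]

theorem counit_powConv (n : ℕ) (a : A) :
    counit (R := R) (SGA3b.powConv R A n a) = counit (R := R) a := by
  have h := comp_powConv (Bialgebra.counitAlgHom R A) n
  rw [show toConv (Bialgebra.counitAlgHom R A) = (1 : WithConv (A →ₐ[R] R)) from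
    WithConv.ext (AlgHom.ext fun a => by simp), one_pow] at h
  simpa using congrArg (fun f : WithConv (A →ₐ[R] R) => f.ofConv a) h

theorem powConv_powConv (m n : ℕ) (a : A) :
    SGA3b.powConv R A m (SGA3b.powConv R A n a) = SGA3b.powConv R A (m * n) a := by
  have h := comp_powConv (SGA3b.powConv R A m) n
  rw [show toConv (SGA3b.powConv R A m) = toConv (AlgHom.id R A) ^ m from rfl, ← pow_mul] at h
  exact congrArg (fun f : WithConv (A →ₐ[R] A) => f.ofConv a) h

theorem powConv_one (a : A) : SGA3b.powConv R A 1 a = a := by simp [SGA3b.powConv]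

section Char

variable {p : ℕ} [hp' : Fact p.Prime] {χ : (ZMod p)ˣ →* Rˣ}

theorem card_units_zmod : Fintype.card (ZMod p)ˣ = p - 1 := ZMod.card_units p

theorem units_pow_card (m : (ZMod p)ˣ) : m ^ (p - 1) = 1 := by
  rw [← card_units_zmod (p := p)]; exact pow_card_eq_one

theorem chi_pow_mod (m : (ZMod p)ˣ) (i : ℕ) :
    ((χ m : Rˣ) : R) ^ i = ((χ m : Rˣ) : R) ^ (i % (p - 1)) := by
  rw [← Units.val_pow_eq_pow_val, ← Units.val_pow_eq_pow_val, ← map_pow, ← map_pow,
    ← pow_eq_pow_mod i (units_pow_card m)]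

theorem exists_pow_ne_one {n : ℕ} (hn : ¬ p - 1 ∣ n) : ∃ m : (ZMod p)ˣ, m ^ n ≠ 1 := by
  obtain ⟨g, hg⟩ := IsCyclic.exists_ofOrder_eq_natCard (α := (ZMod p)ˣ)
  refine ⟨g, fun h => hn ?_⟩
  rw [← card_units_zmod (p := p), ← Nat.card_eq_fintype_card, ← hg]
  exact orderOf_dvd_of_pow_eq_one h

theorem sum_chi_pow_eq_zero (hχ : ∀ m : (ZMod p)ˣ, m ≠ 1 → IsUnit ((χ m : R) - 1)) {n : ℕ}
    (hn : ¬ p - 1 ∣ n) : ∑ m : (ZMod p)ˣ, ((χ m : Rˣ) : R) ^ n = 0 := by
  obtain ⟨g, hg⟩ := exists_pow_ne_one hn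
  refine ((hχ _ hg).mul_right_eq_zero).1 ?_
  rw [sub_mul, one_mul, Finset.mul_sum, sub_eq_zero]
  refine Fintype.sum_equiv (Equiv.mulLeft g) _ _ fun m => ?_
  rw [Equiv.coe_mulLeft, map_pow, Units.val_pow_eq_pow_val, map_mul, Units.val_mul, mul_pow]

theorem geom_chi_eq_zero (hχ : ∀ m : (ZMod p)ˣ, m ≠ 1 → IsUnit ((χ m : R) - 1)) {m : (ZMod p)ˣ}
    (hm : m ≠ 1) : ∑ i ∈ Finset.range (p - 1), ((χ m : Rˣ) : R) ^ i = 0 := by
  refine ((hχ _ hm).mul_right_eq_zero).1 ?_
  rw [mul_geom_sum, ← Units.val_pow_eq_pow_val, ← map_pow, units_pow_card, map_one, Units.val_one,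
    sub_self]

end Char

section Eigen

variable {p : ℕ} [hp' : Fact p.Prime] {χ : (ZMod p)ˣ →* Rˣ}

theorem mem_eigenAug {i : ℕ} {f : A} :
    f ∈ OortTate.eigenAug R A p χ i ↔ counit (R := R) f = 0 ∧
      ∀ m : (ZMod p)ˣ, SGA3b.powConv R A (m : ZMod p).val f = ((χ m : Rˣ) : R) ^ i • f := by
  simp only [OortTate.eigenAug, Submodule.mem_inf, LinearMap.mem_ker, Submodule.mem_iInf,
    Module.End.mem_eigenspace_iff, AlgHom.toLinearMap_apply, Bialgebra.counitAlgHom_apply]

set_option linter.unusedSectionVars false in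
theorem eigenAug_le_ker (i : ℕ) :
    OortTate.eigenAug R A p χ i ≤ LinearMap.ker (Bialgebra.counitAlgHom R A).toLinearMap :=
  inf_le_left

theorem eigenAug_mod (i : ℕ) :
    OortTate.eigenAug R A p χ i = OortTate.eigenAug R A p χ (i % (p - 1)) := by
  refine le_antisymm (fun f hf => ?_) fun f hf => ?_
  · rw [mem_eigenAug] at hf ⊢
    exact ⟨hf.1, fun m => by rw [hf.2, chi_pow_mod]⟩
  · rw [mem_eigenAug] at hf ⊢
    exact ⟨hf.1, fun m => by rw [hf.2, ← chi_pow_mod]⟩

theorem mul_mem_eigenAug {i j : ℕ} {f g : A} (hf : f ∈ OortTate.eigenAug R A p χ i)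
    (hg : g ∈ OortTate.eigenAug R A p χ j) : f * g ∈ OortTate.eigenAug R A p χ (i + j) := by
  rw [mem_eigenAug] at *
  refine ⟨by rw [Bialgebra.counit_mul, hf.1, zero_mul], fun m => ?_⟩
  rw [map_mul, hf.2, hg.2, smul_mul_smul_comm, pow_add]

theorem pow_le_eigenAug (t : ℕ) (ht : 1 ≤ t) :
    OortTate.eigenAug R A p χ 1 ^ t ≤ OortTate.eigenAug R A p χ t := by
  induction t, ht using Nat.le_induction with
  | base => rw [pow_one]
  | succ t _ ih =>
    rw [pow_succ]
    exact Submodule.mul_le.2 fun a ha b hb => mul_mem_eigenAug (ih ha) hb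

variable (hp : toConv (AlgHom.id R A) ^ p = 1)
include hp

omit hp' in
theorem powConv_mod (n : ℕ) : SGA3b.powConv R A n = SGA3b.powConv R A (n % p) :=
  congrArg WithConv.ofConv (pow_eq_pow_mod n hp)

theorem powConv_mul (m n : (ZMod p)ˣ) (a : A) :
    SGA3b.powConv R A (m : ZMod p).val (SGA3b.powConv R A (n : ZMod p).val a) =
      SGA3b.powConv R A ((m * n : (ZMod p)ˣ) : ZMod p).val a := by
  rw [powConv_powConv, powConv_mod hp, Units.val_mul, ZMod.val_mul]

variable {u : R}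

theorem proj_mem (i : ℕ) {f : A} (hf : counit (R := R) f = 0) :
    OortTate.proj R A p u χ i f ∈ OortTate.eigenAug R A p χ i := by
  rw [mem_eigenAug]
  simp only [OortTate.proj, LinearMap.smul_apply, LinearMap.sum_apply, AlgHom.toLinearMap_apply]
  refine ⟨by simp [map_sum, counit_powConv, hf], fun n => ?_⟩
  simp only [map_smul, map_sum, powConv_mul hp]
  rw [smul_comm _ u]
  refine congrArg (u • ·) ?_
  rw [Finset.smul_sum]
  refine Fintype.sum_equiv (Equiv.mulLeft n) _ _ fun m => ?_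
  rw [Equiv.coe_mulLeft, smul_smul, ← mul_pow, ← Units.val_mul, ← map_mul,
    mul_inv_rev, mul_comm m⁻¹, ← mul_assoc, mul_inv_cancel, one_mul]

omit hp in
theorem sum_proj (hu : u * ((p - 1 : ℕ) : R) = 1)
    (hχ : ∀ m : (ZMod p)ˣ, m ≠ 1 → IsUnit ((χ m : R) - 1)) (f : A) :
    ∑ i ∈ Finset.range (p - 1), OortTate.proj R A p u χ i f = f := by
  simp only [OortTate.proj, LinearMap.smul_apply, LinearMap.sum_apply, AlgHom.toLinearMap_apply]
  rw [← Finset.smul_sum, Finset.sum_comm]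
  simp only [← Finset.sum_smul]
  rw [Finset.sum_eq_single (1 : (ZMod p)ˣ)]
  · rw [inv_one, map_one, Units.val_one]
    simp only [one_pow, Finset.sum_const, Finset.card_range, nsmul_eq_mul, mul_one]
    rw [smul_smul, hu, one_smul, Units.val_one, ZMod.val_one, powConv_one]
  · intro m _ hm
    rw [geom_chi_eq_zero hχ (by simpa using hm), zero_smul]
  · simp

omit hp in
theorem proj_eq_self (hu : u * ((p - 1 : ℕ) : R) = 1) {i : ℕ} {f : A}
    (hf : f ∈ OortTate.eigenAug R A p χ i) : OortTate.proj R A p u χ i f = f := by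
  simp only [OortTate.proj, LinearMap.smul_apply, LinearMap.sum_apply, AlgHom.toLinearMap_apply,
    (mem_eigenAug.1 hf).2, smul_smul, ← mul_pow, ← Units.val_mul, ← map_mul, inv_mul_cancel,
    map_one, Units.val_one, one_pow, one_smul, Finset.sum_const, Finset.card_univ, card_units_zmod]
  rw [← Nat.cast_smul_eq_nsmul R, smul_smul, hu, one_smul]

omit hp in
theorem proj_eq_zero (hχ : ∀ m : (ZMod p)ˣ, m ≠ 1 → IsUnit ((χ m : R) - 1)) {i j : ℕ} {f : A}
    (hij : i % (p - 1) ≠ j % (p - 1))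
    (hf : f ∈ OortTate.eigenAug R A p χ j) : OortTate.proj R A p u χ i f = 0 := by
  have h1 : 0 < p - 1 := by have := hp'.out.two_le; omega
  have key : ∀ m : (ZMod p)ˣ, ((χ m⁻¹ : Rˣ) : R) ^ i * ((χ m : Rˣ) : R) ^ j =
      ((χ m : Rˣ) : R) ^ (j + (p - 1 - i % (p - 1))) := by
    intro m
    rw [chi_pow_mod m⁻¹ i, pow_add, mul_comm]
    congr 1
    rw [← Units.val_pow_eq_pow_val, ← Units.val_pow_eq_pow_val, ← map_pow, ← map_pow]
    congr 2
    rw [inv_pow, inv_eq_iff_mul_eq_one, ← pow_add,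
      Nat.add_sub_cancel' (Nat.mod_lt i h1).le, units_pow_card]
  simp only [OortTate.proj, LinearMap.smul_apply, LinearMap.sum_apply, AlgHom.toLinearMap_apply,
    (mem_eigenAug.1 hf).2, smul_smul, key, ← Finset.sum_smul]
  rw [sum_chi_pow_eq_zero hχ, mul_zero, zero_smul]
  intro hd
  apply hij
  obtain ⟨c, hc⟩ := hd
  have h3 := congrArg (fun n => (n + i % (p - 1)) % (p - 1)) hc
  simp only [Nat.mul_add_mod, Nat.mod_mod] at h3
  rw [← h3, show j + (p - 1 - i % (p - 1)) + i % (p - 1) = j + (p - 1) by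
    have := Nat.mod_lt i h1; omega, Nat.add_mod_right]

end Eigen

end Groth.Agent.OTLib
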