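import Groth.Agent.OTLib.Pairing
import Mathlib.RingTheory.Bialgebra.Equiv

/-!
# The classification map is injective
-/

namespace Groth.Agent.OTLib

open TensorProduct WithConv Coalgebra Pointwise

universe u

variable {R : Type u} [CommRing R]
variable {p : ℕ} [hp' : Fact p.Prime] {u : R} {χ : (ZMod p)ˣ →* Rˣ}
  (hu : u * ((p - 1 : ℕ) : R) = 1)
  (hχ : ∀ m : (ZMod p)ˣ, m ≠ 1 → IsUnit ((χ m : R) - 1))
  (hχp : ∀ m : (ZMod p)ˣ, ((χ m : Rˣ) : R) - (((m : ZMod p).val : ℕ) : R) ∈ Ideal.span ({(p : R)} : Set R))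
variable {A : Type u} [CommRing A] [HopfAlgebra R A] [Module.Finite R A] [Module.Projective R A]
  (hrk : ∀ q : PrimeSpectrum R, Module.rankAtStalk A q = p)
variable {A' : Type u} [CommRing A'] [HopfAlgebra R A']

include hu hχ hχp hrk

/-- A map of first eigenspaces compatible with `p`-fold products extends to an algebra map. -/
theorem exists_algHom (θ : OortTate.eigenAug R A p χ 1 →ₗ[R] OortTate.eigenAug R A' p χ 1)
    (hθ : ∀ (f : Fin p → OortTate.eigenAug R A p χ 1) (g : OortTate.eigenAug R A p χ 1),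
      (g : A) = ∏ i, (f i : A) → ((θ g : OortTate.eigenAug R A' p χ 1) : A') = ∏ i, ((θ (f i)) : A')) :
    ∃ ψ : A →ₐ[R] A', (∀ x : OortTate.eigenAug R A p χ 1, ψ (x : A) = θ x) ∧
      ∀ (m : (ZMod p)ˣ) (a : A), ψ (SGA3b.powConv R A (m : ZMod p).val a) =
        SGA3b.powConv R A' (m : ZMod p).val (ψ a) := by
  let Φ := TensorAlgebra.lift R (OortTate.eigenAug R A p χ 1).subtype
  let F := TensorAlgebra.lift R ((OortTate.eigenAug R A' p χ 1).subtype ∘ₗ θ)
  have hsurj : Function.Surjective Φ := lift_surjective hu hχ hχp hrk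
  have hker : RingHom.ker Φ ≤ RingHom.ker F := by
    rw [ker_lift hu hχ hχp hrk, Ideal.span_le]
    rintro _ ⟨f, g, hfg, rfl⟩
    rw [SetLike.mem_coe, RingHom.mem_ker, map_sub, map_list_prod, List.map_ofFn,
      TensorAlgebra.lift_ι_apply, sub_eq_zero, LinearMap.comp_apply, Submodule.subtype_apply, hθ f g hfg,
      ← List.prod_ofFn]
    congr 1
    exact congrArg List.ofFn (funext fun i => by simp [F])
  have hwd : ∀ s t, Φ s = Φ t → F s = F t := fun s t h => sub_eq_zero.1 (by
    rw [← map_sub]; exact hker (by rw [RingHom.mem_ker, map_sub, h, sub_self]))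
  have hsec : ∀ a, Φ (Function.surjInv hsurj a) = a := Function.surjInv_eq hsurj
  let ψ : A →ₐ[R] A' :=
    { toFun := fun a => F (Function.surjInv hsurj a)
      map_one' := (hwd _ 1 (by rw [hsec, map_one])).trans (map_one F)
      map_mul' := fun a b => (hwd _ (Function.surjInv hsurj a * Function.surjInv hsurj b)
        (by rw [hsec, map_mul, hsec, hsec])).trans (map_mul F _ _)
      map_zero' := (hwd _ 0 (by rw [hsec, map_zero])).trans (map_zero F)
      map_add' := fun a b => (hwd _ (Function.surjInv hsurj a + Function.surjInv hsurj b)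
        (by rw [hsec, map_add, hsec, hsec])).trans (map_add F _ _)
      commutes' := fun r => (hwd _ (algebraMap R _ r) (by rw [hsec, AlgHom.commutes])).trans (F.commutes r) }
  have hψ : ∀ t, ψ (Φ t) = F t := fun t => hwd _ _ (hsec _)
  have hx : ∀ x : OortTate.eigenAug R A p χ 1, ψ (x : A) = θ x := fun x => by
    rw [show (x : A) = Φ (TensorAlgebra.ι R x) by simp [Φ], hψ]
    simp [F]
  refine ⟨ψ, hx, fun m a => ?_⟩
  have h : (ψ.comp (SGA3b.powConv R A (m : ZMod p).val)).comp Φ =
      ((SGA3b.powConv R A' (m : ZMod p).val).comp ψ).comp Φ := by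
    refine TensorAlgebra.hom_ext (LinearMap.ext fun x => ?_)
    simp only [LinearMap.comp_apply, AlgHom.toLinearMap_apply, AlgHom.comp_apply, Φ, TensorAlgebra.lift_ι_apply,
      Submodule.subtype_apply]
    rw [(mem_eigenAug.1 x.2).2, map_smul, hx, (mem_eigenAug.1 (θ x).2).2]
  obtain ⟨t, rfl⟩ := hsurj a
  exact AlgHom.congr_fun h t

theorem counit_comp_eq (ψ : A →ₐ[R] A') (θ : OortTate.eigenAug R A p χ 1 →ₗ[R] OortTate.eigenAug R A' p χ 1)
    (hx : ∀ x : OortTate.eigenAug R A p χ 1, ψ (x : A) = θ x) (a : A) :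
    counit (R := R) (ψ a) = counit (R := R) a := by
  have h : ((Bialgebra.counitAlgHom R A').comp ψ).comp (TensorAlgebra.lift R (OortTate.eigenAug R A p χ 1).subtype) =
      (Bialgebra.counitAlgHom R A).comp (TensorAlgebra.lift R (OortTate.eigenAug R A p χ 1).subtype) := by
    refine TensorAlgebra.hom_ext (LinearMap.ext fun x => ?_)
    simp [hx, (mem_eigenAug.1 x.2).1, (mem_eigenAug.1 (θ x).2).1]
  obtain ⟨t, rfl⟩ := lift_surjective hu hχ hχp hrk a
  exact AlgHom.congr_fun h t

omit hu hχ hχp hrk in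
theorem eigen_rep (i : ℕ) : ∃ t, 1 ≤ t ∧ t ≤ p - 1 ∧ i % (p - 1) = t % (p - 1) := by
  have hp2 := hp'.out.two_le
  by_cases h : i % (p - 1) = 0
  · exact ⟨p - 1, by omega, le_rfl, by rw [h, Nat.mod_self]⟩
  · exact ⟨i % (p - 1), Nat.pos_of_ne_zero h, (Nat.mod_lt _ (by omega)).le, (Nat.mod_mod _ _).symm⟩

/-- Every element of a power of the first eigenspace is a combination of products. -/
theorem induction_eigen {t : ℕ} (ht : 1 ≤ t) (ht' : t ≤ p - 1) {motive : A → Prop} {f : A}
    (hf : f ∈ OortTate.eigenAug R A p χ t)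
    (prod : ∀ x : Fin t → OortTate.eigenAug R A p χ 1, motive (∏ i, (x i : A)))
    (zero : motive 0) (add : ∀ a b, motive a → motive b → motive (a + b))
    (smul : ∀ (r : R) a, motive a → motive (r • a)) : motive f := by
  have hspan : OortTate.eigenAug R A p χ t = Submodule.span R ((OortTate.eigenAug R A p χ 1 : Set A) ^ t) := by
    rw [← eigenAug_pow_eq hu hχ hχp hrk ht ht', ← Submodule.span_pow, Submodule.span_eq]
  rw [hspan] at hf
  refine Submodule.span_induction (fun y hy => ?_) zero (fun a b _ _ => add a b) (fun r a _ => smul r a) hf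
  obtain ⟨g, rfl⟩ := Set.mem_pow.1 hy
  rw [List.prod_ofFn]
  exact prod fun i => ⟨_, (g i).2⟩

variable [Coalgebra.IsCocomm R A] [Coalgebra.IsCocomm R A'] [Module.Finite R A'] [Module.Projective R A']
  (hrk' : ∀ q : PrimeSpectrum R, Module.rankAtStalk A' q = p)
include hrk'

/-- The classification is injective on isomorphism classes. -/
theorem nonempty_bialgEquiv (θ : OortTate.eigenAug R A p χ 1 ≃ₗ[R] OortTate.eigenAug R A' p χ 1)
    (hθ : ∀ (f : Fin p → OortTate.eigenAug R A p χ 1) (g : OortTate.eigenAug R A p χ 1),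
      (g : A) = ∏ i, (f i : A) → ((θ g : OortTate.eigenAug R A' p χ 1) : A') = ∏ i, ((θ (f i)) : A'))
    (hθD : ∀ (φ : Fin p → OortTate.eigenAug R (CartDual.D R A) p χ 1)
      (φ' : Fin p → OortTate.eigenAug R (CartDual.D R A') p χ 1)
      (ψ : OortTate.eigenAug R (CartDual.D R A) p χ 1) (ψ' : OortTate.eigenAug R (CartDual.D R A') p χ 1),
      (∀ i, ∀ x : OortTate.eigenAug R A p χ 1,
        CartDual.toDual R A (φ i : CartDual.D R A) (x : A) =
          CartDual.toDual R A' (φ' i : CartDual.D R A') ((θ x : OortTate.eigenAug R A' p χ 1) : A')) →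
      (ψ : CartDual.D R A) = ∏ i, (φ i : CartDual.D R A) →
      (ψ' : CartDual.D R A') = ∏ i, (φ' i : CartDual.D R A') →
      ∀ x : OortTate.eigenAug R A p χ 1,
        CartDual.toDual R A (ψ : CartDual.D R A) (x : A) =
          CartDual.toDual R A' (ψ' : CartDual.D R A') ((θ x : OortTate.eigenAug R A' p χ 1) : A')) :
    Nonempty (A ≃ₐc[R] A') := by
  classical
  obtain ⟨ψ, hψx, hψP⟩ := exists_algHom hu hχ hχp hrk θ.toLinearMap hθ
  have hθ' : ∀ (f : Fin p → OortTate.eigenAug R A' p χ 1) (g : OortTate.eigenAug R A' p χ 1),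
      (g : A') = ∏ i, (f i : A') → ((θ.symm g : OortTate.eigenAug R A p χ 1) : A) = ∏ i, ((θ.symm (f i)) : A) := by
    intro f g hg
    have hp2 := hp'.out.two_le
    have hmem : ∏ i, ((θ.symm (f i)) : A) ∈ OortTate.eigenAug R A p χ 1 := by
      have h1 : ∏ i, ((θ.symm (f i)) : A) ∈ OortTate.eigenAug R A p χ 1 ^ p := by
        rw [← List.prod_ofFn]
        exact Submodule.pow_subset_pow _ (Set.mem_pow.2 ⟨fun i => ⟨_, (θ.symm (f i)).2⟩, rfl⟩)
      have h2 := pow_le_eigenAug p (by omega) h1
      rwa [eigenAug_mod, show p % (p - 1) = 1 % (p - 1) by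
        rw [show p = 1 + (p - 1) by omega]; simp, ← eigenAug_mod] at h2
    have h := hθ (fun i => θ.symm (f i)) ⟨_, hmem⟩ rfl
    simp only [LinearEquiv.apply_symm_apply] at h
    rw [← hg] at h
    rw [← Subtype.ext h (a1 := θ ⟨_, hmem⟩) (a2 := g), LinearEquiv.symm_apply_apply]
  obtain ⟨ψi, hψix, -⟩ := exists_algHom hu hχ hχp hrk' θ.symm.toLinearMap hθ'
  have hinv1 : ψi.comp ψ = AlgHom.id R A := by
    have h : (ψi.comp ψ).comp (TensorAlgebra.lift R (OortTate.eigenAug R A p χ 1).subtype) =
        TensorAlgebra.lift R (OortTate.eigenAug R A p χ 1).subtype := by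
      refine TensorAlgebra.hom_ext (LinearMap.ext fun x => ?_)
      simp [hψx, hψix]
    refine AlgHom.ext fun a => ?_
    obtain ⟨t, rfl⟩ := lift_surjective hu hχ hχp hrk a
    exact AlgHom.congr_fun h t
  have hinv2 : ψ.comp ψi = AlgHom.id R A' := by
    have h : (ψ.comp ψi).comp (TensorAlgebra.lift R (OortTate.eigenAug R A' p χ 1).subtype) =
        TensorAlgebra.lift R (OortTate.eigenAug R A' p χ 1).subtype := by
      refine TensorAlgebra.hom_ext (LinearMap.ext fun x => ?_)
      simp [hψx, hψix]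
    refine AlgHom.ext fun a => ?_
    obtain ⟨t, rfl⟩ := lift_surjective hu hχ hχp hrk' a
    exact AlgHom.congr_fun h t
  let e : A ≃ₐ[R] A' := AlgEquiv.ofAlgHom ψ ψi hinv2 hinv1
  have hε : ∀ a, counit (R := R) (ψ a) = counit (R := R) a := counit_comp_eq hu hχ hχp hrk ψ θ.toLinearMap hψx
  -- the transpose
  let τ : CartDual.D R A' →ₗ[R] CartDual.D R A :=
    { toFun := fun φ => toConv (φ.ofConv ∘ₗ ψ.toLinearMap)
      map_add' := fun φ φ' => by ext; simp
      map_smul' := fun r φ => by ext; simp }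
  have hτ : ∀ φ a, τ φ a = φ (ψ a) := fun φ a => rfl
  have hτ1 : τ 1 = 1 := WithConv.ext (LinearMap.ext fun a => by
    change (1 : CartDual.D R A') (ψ a) = (1 : CartDual.D R A) a
    simp [hε])
  have hτmem : ∀ i φ, φ ∈ OortTate.eigenAug R (CartDual.D R A') p χ i →
      τ φ ∈ OortTate.eigenAug R (CartDual.D R A) p χ i := by
    intro i φ hφ
    obtain ⟨h1, h2⟩ := mem_eigenAug_dual.1 hφ
    exact mem_eigenAug_dual.2 ⟨by rw [hτ, map_one, h1], fun m a => by rw [hτ, hτ, hψP, h2]⟩
  obtain ⟨w, hw⟩ := exists_w (R := R) hu hχ hχp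
  have hid := pow_prime_eq_one hrk
  -- multiplicativity on products of first eigenspaces
  have hτprod : ∀ t, 1 ≤ t → t ≤ p → ∀ φ : Fin t → OortTate.eigenAug R (CartDual.D R A') p χ 1,
      τ (∏ i, (φ i : CartDual.D R A')) = ∏ i, τ (φ i : CartDual.D R A') := by
    intro t ht htp φ
    have hprodmem : ∀ {B : Type u} [CommRing B] [HopfAlgebra R B] (g : Fin t → OortTate.eigenAug R B p χ 1),
        ∏ i, (g i : B) ∈ OortTate.eigenAug R B p χ t := fun g => by
      refine pow_le_eigenAug t ht ?_
      rw [← List.prod_ofFn]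
      exact Submodule.pow_subset_pow _ (Set.mem_pow.2 ⟨fun i => ⟨_, (g i).2⟩, rfl⟩)
    have hL := hτmem t _ (hprodmem φ)
    have hR := hprodmem fun i => (⟨_, hτmem 1 _ (φ i).2⟩ : OortTate.eigenAug R (CartDual.D R A) p χ 1)
    have key : ∀ f ∈ OortTate.eigenAug R A p χ t,
        τ (∏ i, (φ i : CartDual.D R A')) f = (∏ i, τ (φ i : CartDual.D R A')) f := by
      rcases Nat.lt_or_ge t p with htlt | hge
      · intro f hf
        refine induction_eigen (motive := fun f => (τ (∏ i, (φ i : CartDual.D R A'))) f = (∏ i, τ (φ i : CartDual.D R A')) f)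
          hu hχ hχp hrk ht (by omega) hf (fun x => ?_) (by simp)
          (fun a b ha hb => by rw [map_add, map_add, ha, hb]) (fun r a ha => by rw [map_smul, map_smul, ha])
        rw [hτ, map_prod, Finset.prod_congr rfl fun i _ => hψx (x i),
          pairing_prod hu hχ hχp hrk' ht (by omega) hw φ fun i => θ.toLinearMap (x i),
          pairing_prod hu hχ hχp hrk ht (by omega) hw (fun i => ⟨_, hτmem 1 _ (φ i).2⟩) x]
        simp only [hτ, hψx]
      · have htp' : t = p := le_antisymm htp hge
        subst htp'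
        have h1 : OortTate.eigenAug R A t χ t = OortTate.eigenAug R A t χ 1 := by
          have := hp'.out.two_le
          rw [eigenAug_mod, show t % (t - 1) = 1 % (t - 1) by
            obtain ⟨s, rfl⟩ : ∃ s, t = 1 + s := ⟨t - 1, by omega⟩
            simp, ← eigenAug_mod]
        intro f hf
        rw [h1] at hf
        have h2 : ∀ {B : Type u} [CommRing B] [HopfAlgebra R B],
            OortTate.eigenAug R B t χ t = OortTate.eigenAug R B t χ 1 := by
          intro B _ _
          have := hp'.out.two_le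
          rw [eigenAug_mod, show t % (t - 1) = 1 % (t - 1) by
            obtain ⟨s, rfl⟩ : ∃ s, t = 1 + s := ⟨t - 1, by omega⟩
            simp, ← eigenAug_mod]
        have h := hθD (fun i => ⟨_, hτmem 1 _ (φ i).2⟩) φ ⟨_, (h2 (B := CartDual.D R A)).le hR⟩
          ⟨_, (h2 (B := CartDual.D R A')).le (hprodmem φ)⟩
          (fun i x => by
            change τ (φ i : CartDual.D R A') (x : A) = _
            rw [hτ, hψx]; rfl) rfl rfl ⟨f, hf⟩
        rw [hτ, show ψ f = _ from hψx ⟨f, hf⟩]
        exact h.symm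
    refine WithConv.ext (LinearMap.ext fun a => ?_)
    rw [← dual_eigen_apply hid hu hL a, ← dual_eigen_apply hid hu hR a]
    exact key _ (pr u χ t hid a).2
  have hrkD : ∀ q : PrimeSpectrum R, Module.rankAtStalk (R := R) (CartDual.D R A') q = p := fun q => by
    rw [Module.rankAtStalk_eq_of_equiv (CartDual.toDual R A'), rankAtStalk_dual, hrk']
  have hidD := pow_prime_eq_one hrkD
  have hstep : ∀ (Φ : CartDual.D R A') (φ : OortTate.eigenAug R (CartDual.D R A') p χ 1),
      τ (Φ * φ) = τ Φ * τ (φ : CartDual.D R A') := by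
    intro Φ φ
    rw [← sum_pr hidD hu hχ Φ, add_mul, Finset.sum_mul, map_add, map_add, map_sum, map_sum, add_mul,
      Finset.sum_mul]
    congr 1
    · rw [← Algebra.smul_def, map_smul, Algebra.algebraMap_eq_smul_one, map_smul, hτ1, smul_mul_assoc, one_mul]
    · refine Finset.sum_congr rfl fun i _ => ?_
      obtain ⟨t, ht, ht', hmod⟩ := eigen_rep (p := p) i
      have hmem := (show OortTate.eigenAug R (CartDual.D R A') p χ i = OortTate.eigenAug R (CartDual.D R A') p χ t by
        rw [eigenAug_mod, hmod, ← eigenAug_mod]).le (pr u χ i hidD Φ).2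
      refine induction_eigen (motive := fun ξ => τ (ξ * φ) = τ ξ * τ (φ : CartDual.D R A'))
        hu hχ hχp hrkD ht ht' hmem (fun x => ?_) (by simp)
        (fun a b ha hb => by rw [add_mul, map_add, ha, hb, map_add, add_mul])
        (fun r a ha => by rw [smul_mul_assoc, map_smul, ha, map_smul, smul_mul_assoc])
      have h1 := hτprod (t + 1) (by omega) (by omega) (Fin.snoc x φ)
      simp only [Fin.prod_univ_castSucc, Fin.snoc_castSucc, Fin.snoc_last] at h1
      rw [h1, hτprod t ht (by omega) x]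
  have hτmul : ∀ Φ Ψ : CartDual.D R A', τ (Φ * Ψ) = τ Φ * τ Ψ := by
    intro Φ Ψ
    obtain ⟨b, rfl⟩ := lift_surjective hu hχ hχp hrkD Ψ
    induction b using TensorAlgebra.induction generalizing Φ with
    | algebraMap r =>
      rw [AlgHom.commutes, Algebra.algebraMap_eq_smul_one, mul_smul_comm, mul_one, map_smul, map_smul, hτ1,
        mul_smul_comm, mul_one]
    | ι x => rw [TensorAlgebra.lift_ι_apply, Submodule.subtype_apply, hstep]
    | mul a b ha hb =>
      rw [map_mul (TensorAlgebra.lift R _), ← mul_assoc, hb, ha, mul_assoc, ← hb]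
    | add a b ha hb => rw [map_add, mul_add, map_add, ha, hb, map_add, mul_add]
  -- the comultiplication
  refine ⟨BialgEquiv.ofAlgEquiv e (AlgHom.ext fun a => hε a) (AlgHom.ext fun a => ?_)⟩
  refine sub_eq_zero.1 ((Module.forall_dual_apply_eq_zero_iff R _).1 fun Ψ => ?_)
  obtain ⟨t, rfl⟩ := (CartDual.dualTensorEquiv R A' A').surjective Ψ
  induction t using TensorProduct.induction_on with
  | zero => simp
  | add s s' hs hs' => rw [map_add, LinearMap.add_apply, hs, hs', add_zero]
  | tmul f g =>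
    rw [map_sub, sub_eq_zero]
    have h := congrArg (fun F : CartDual.D R A => F a) (hτmul (toConv f) (toConv g))
    simp only [hτ, LinearMap.convMul_apply] at h
    simp only [AlgHom.comp_apply, Bialgebra.comulAlgHom_apply, e, AlgEquiv.coe_toAlgHom]
    change CartDual.dualTensorEquiv R A' A' (f ⊗ₜ g) (Algebra.TensorProduct.map ψ ψ (comul (R := R) a)) =
      CartDual.dualTensorEquiv R A' A' (f ⊗ₜ g) (comul (R := R) (ψ a))
    refine Eq.trans ?_ (Eq.trans h.symm ?_)
    · generalize comul (R := R) a = z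
      induction z using TensorProduct.induction_on with
      | zero => simp
      | add p q hp hq => simp only [map_add, hp, hq]
      | tmul p q => simp [hτ]
    · generalize comul (R := R) (ψ a) = z
      induction z using TensorProduct.induction_on with
      | zero => simp
      | add p q hp hq => simp only [map_add, hp, hq]
      | tmul p q => simp

end Groth.Agent.OTLib
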