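import Groth.Agent.FinHopf.Reduced
import Mathlib.RingTheory.Norm.Basic
import Mathlib.RingTheory.Coalgebra.Convolution
import Mathlib.RingTheory.Coalgebra.TensorProduct

/-!
# Deligne's theorem

A commutative finite locally free group scheme of rank `n` is killed by `n`: the norm of the
universal point, a unit of `Hom(A, A ⊗ A)` over `Hom(A, A)`, is invariant under translation.
-/

namespace Groth.Agent.OTLib

open TensorProduct WithConv Coalgebra

universe u v

variable {R : Type u} [CommRing R] {A : Type v} [CommRing A] [HopfAlgebra R A]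

/-- An element of a projective module vanishing in every localization at a maximal ideal is zero. -/
theorem eq_zero_of_forall_localization {M : Type*} [AddCommGroup M] [Module R M] [Module.Projective R M]
    (z : M) (h : ∀ (P : Ideal R) [P.IsMaximal], (1 : Localization.AtPrime P) ⊗ₜ[R] z = 0) : z = 0 := by
  rw [← Module.forall_dual_apply_eq_zero_iff R]
  intro φ
  refine eq_zero_of_localization _ fun P hP => ?_
  have := hP
  have h2 := congrArg ((TensorProduct.rid R (Localization.AtPrime P)).toLinearMap ∘ₗ φ.lTensor _ :
    Localization.AtPrime P ⊗[R] M →ₗ[R] _) (h P)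
  simpa only [LinearMap.comp_apply, LinearMap.lTensor_tmul, LinearEquiv.coe_coe,
    TensorProduct.rid_tmul, ← Algebra.algebraMap_eq_smul_one, map_zero] using h2

omit [CommRing A] [HopfAlgebra R A] in
theorem rankAtStalk_localization {M : Type*} [AddCommGroup M] [Module R M] [Module.Finite R M]
    [Module.Projective R M] (n : ℕ) (hn : ∀ p : PrimeSpectrum R, Module.rankAtStalk M p = n)
    (S : Type u) [CommRing S] [Algebra R S] [IsLocalRing S] :
    Module.Free S (S ⊗[R] M) ∧ Module.finrank S (S ⊗[R] M) = n := by
  have hf : Module.Free S (S ⊗[R] M) := Module.free_of_flat_of_isLocalRing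
  refine ⟨hf, ?_⟩
  let q : PrimeSpectrum S := IsLocalRing.closedPoint S
  have h := congrFun (Module.rankAtStalk_eq_finrank_of_free (R := S) (M := S ⊗[R] M)) q
  rw [Module.rankAtStalk_baseChange, hn] at h
  exact h.symm

section Free

variable [Coalgebra.IsCocomm R A]

local notation "B" => WithConv (A →ₗ[R] A)
local notation "C" => WithConv (A →ₗ[R] A ⊗[R] A)

/-- Post-composition with an algebra map on convolution algebras. -/
noncomputable def post {S T : Type*} [CommRing S] [Algebra R S] [CommRing T] [Algebra R T]
    (h : S →ₐ[R] T) : WithConv (A →ₗ[R] S) →+* WithConv (A →ₗ[R] T) where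
  toFun f := toConv (h.toLinearMap ∘ₗ f.ofConv)
  map_one' := WithConv.ext (LinearMap.ext fun a => by simp)
  map_mul' f g := WithConv.ext (LinearMap.algHom_comp_convMul_distrib h f g)
  map_zero' := WithConv.ext (LinearMap.comp_zero _)
  map_add' f g := WithConv.ext (LinearMap.comp_add _ _ _)

omit [Coalgebra.IsCocomm R A] in
theorem post_apply {S T : Type*} [CommRing S] [Algebra R S] [CommRing T] [Algebra R T]
    (h : S →ₐ[R] T) (f : WithConv (A →ₗ[R] S)) (a : A) : post h f a = h (f a) := rfl

/-- The constant map at an element. -/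
noncomputable def const (t : A ⊗[R] A) : C :=
  toConv (LinearMap.toSpanSingleton R _ t ∘ₗ counit)

omit [Coalgebra.IsCocomm R A] in
theorem mul_const (f : C) (t : A ⊗[R] A) (a : A) : (f * const t) a = f a * t := by
  rw [(ℛ R a).convMul_apply]
  simp only [const, WithConv.ofConv_toConv, LinearMap.coe_comp, Function.comp_apply,
    LinearMap.toSpanSingleton_apply, mul_smul_comm]
  have h : ∑ i ∈ (ℛ R a).index, counit (R := R) ((ℛ R a).right i) • (ℛ R a).left i = a := by
    have h := congrArg (TensorProduct.rid R A) (sum_tmul_counit_eq (R := R) (ℛ R a))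
    simp only [map_sum, TensorProduct.rid_tmul, one_smul] at h
    exact h
  conv_rhs => rw [← h, map_sum, Finset.sum_mul]
  exact Finset.sum_congr rfl fun i _ => by rw [map_smul, smul_mul_assoc]

theorem pow_eq_one_of_free [Module.Free R A] [Module.Finite R A] :
    (toConv (AlgHom.id R A)) ^ Module.finrank R A = 1 := by
  classical
  let b := Module.Free.chooseBasis R A
  let jl : A →ₐ[R] A ⊗[R] A := Algebra.TensorProduct.includeLeft
  let jr : A →ₐ[R] A ⊗[R] A := Algebra.TensorProduct.includeRight
  let ι : B →+* C := post jl
  let _ : Algebra B C := ι.toAlgebra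
  let u : C := toConv jr.toLinearMap
  let S := HopfAlgebra.antipodeAlgHom R A
  let co : Module.Free.ChooseBasisIndex R A → (A ⊗[R] A →ₗ[R] A) := fun i =>
    (TensorProduct.rid R A).toLinearMap ∘ₗ (b.coord i).lTensor A
  have hsum : ∀ t : A ⊗[R] A, ∑ i, co i t ⊗ₜ[R] b i = t := fun t => by
    induction t using TensorProduct.induction_on with
    | zero => simp
    | add p q hp hq => simp only [map_add, add_tmul, Finset.sum_add_distrib, hp, hq]
    | tmul p q =>
      simp only [co, LinearMap.comp_apply, LinearMap.lTensor_tmul, LinearEquiv.coe_coe,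
        TensorProduct.rid_tmul, smul_tmul, ← tmul_sum, Module.Basis.coord_apply, b.sum_repr]
  have hι : ∀ (f : B) i a, (ι f * const ((1 : A) ⊗ₜ[R] b i)) a = f a ⊗ₜ[R] b i := fun f i a => by
    rw [mul_const]
    change (f a ⊗ₜ[R] (1 : A)) * ((1 : A) ⊗ₜ[R] b i) = _
    rw [Algebra.TensorProduct.tmul_mul_tmul, mul_one, one_mul]
  let e : C ≃ₗ[B] (Module.Free.ChooseBasisIndex R A → B) := LinearEquiv.symm
    { toFun := fun f => ∑ i, ι (f i) * const ((1 : A) ⊗ₜ[R] b i)
      map_add' := fun f g => by simp [add_mul, Finset.sum_add_distrib]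
      map_smul' := fun r f => by
        rw [RingHom.id_apply, Algebra.smul_def r (∑ i, _), Finset.mul_sum]
        refine Finset.sum_congr rfl fun i _ => ?_
        rw [Pi.smul_apply, smul_eq_mul, map_mul, mul_assoc]
        rfl
      invFun := fun c i => toConv (co i ∘ₗ c.ofConv)
      left_inv := fun f => funext fun i => WithConv.ext (LinearMap.ext fun a => by
        change co i ((∑ j, ι (f j) * const ((1 : A) ⊗ₜ[R] b j)) a) = f i a
        simp only [WithConv.ofConv_sum, LinearMap.sum_apply, hι, map_sum]
        simp [co, Finsupp.single_apply])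
      right_inv := fun c => WithConv.ext (LinearMap.ext fun a => by
        simp only [WithConv.ofConv_sum, LinearMap.sum_apply, hι]
        exact hsum _) }
  let bC : Module.Basis (Module.Free.ChooseBasisIndex R A) B C := Module.Basis.ofEquivFun e
  -- the shear
  let g : WithConv (A →ₐ[R] A ⊗[R] A) := toConv jl
  let g' : WithConv (A →ₐ[R] A ⊗[R] A) := toConv (jl.comp S)
  let w : WithConv (A →ₐ[R] A ⊗[R] A) := toConv jr
  let T : A ⊗[R] A →ₐ[R] A ⊗[R] A :=
    Algebra.TensorProduct.lift jl (g * w).ofConv fun _ _ => Commute.all _ _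
  let T' : A ⊗[R] A →ₐ[R] A ⊗[R] A :=
    Algebra.TensorProduct.lift jl (g' * w).ofConv fun _ _ => Commute.all _ _
  have hgg : g' * g = 1 := by
    apply WithConv.ext
    apply AlgHom.toLinearMap_injective
    apply WithConv.toConv_injective
    rw [AlgHom.toLinearMap_convOne, AlgHom.toLinearMap_convMul]
    have h := congrArg (post (A := A) jl) (LinearMap.antipode_mul_id : toConv (HopfAlgebra.antipode R (A := A)) * toConv LinearMap.id = 1)
    rw [map_mul, map_one] at h
    exact h
  have hgg' : g * g' = 1 := by
    apply WithConv.ext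
    apply AlgHom.toLinearMap_injective
    apply WithConv.toConv_injective
    rw [AlgHom.toLinearMap_convOne, AlgHom.toLinearMap_convMul]
    have h := congrArg (post (A := A) jl) (LinearMap.id_mul_antipode : toConv LinearMap.id * toConv (HopfAlgebra.antipode R (A := A)) = 1)
    rw [map_mul, map_one] at h
    exact h
  have hl : T.comp jl = jl := AlgHom.ext fun a => by simp [T, jl]
  have hl' : T'.comp jl = jl := AlgHom.ext fun a => by simp [T', jl]
  have hr : T.comp jr = (g * w).ofConv := AlgHom.ext fun a => by simp [T, jr, jl]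
  have hr' : T'.comp jr = (g' * w).ofConv := AlgHom.ext fun a => by simp [T', jr, jl]
  have h1 : T.comp T' = AlgHom.id R _ := by
    refine Algebra.TensorProduct.ext ?_ ?_
    · change (T.comp T').comp jl = jl
      rw [AlgHom.comp_assoc, hl', hl]
    · change (T.comp T').comp jr = jr
      rw [AlgHom.comp_assoc, hr', AlgHom.comp_convMul_distrib]
      simp only [g', w, hr, ← AlgHom.comp_assoc, hl, WithConv.toConv_ofConv]
      rw [← mul_assoc, hgg, one_mul]
  have h2 : T'.comp T = AlgHom.id R _ := by
    refine Algebra.TensorProduct.ext ?_ ?_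
    · change (T'.comp T).comp jl = jl
      rw [AlgHom.comp_assoc, hl, hl']
    · change (T'.comp T).comp jr = jr
      rw [AlgHom.comp_assoc, hr, AlgHom.comp_convMul_distrib]
      simp only [g, w, hr', hl', WithConv.toConv_ofConv]
      rw [← mul_assoc, hgg', one_mul]
  have hpl : ∀ (P Q : A ⊗[R] A →ₐ[R] A ⊗[R] A), P.comp Q = AlgHom.id R _ →
      ∀ c : C, post P (post Q c) = c := fun P Q h c =>
    WithConv.ext (LinearMap.ext fun a => AlgHom.congr_fun h _)
  let σ : C ≃ₐ[B] C :=
    { post (A := A) T with
      invFun := post T'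
      left_inv := hpl T' T h2
      right_inv := hpl T T' h1
      commutes' := fun f => WithConv.ext (LinearMap.ext fun a => AlgHom.congr_fun hl _) }
  let i : B := toConv LinearMap.id
  have hσ : σ u = algebraMap B C i * u := by
    apply WithConv.ext
    refine LinearMap.ext fun a => ?_
    change T (jr a) = _
    rw [← AlgHom.comp_apply, hr]
    rfl
  have hu : IsUnit u := by
    have h := congrArg (post (A := A) jr) (LinearMap.id_mul_antipode : toConv LinearMap.id * toConv (HopfAlgebra.antipode R (A := A)) = 1)
    rw [map_mul, map_one] at h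
    exact IsUnit.of_mul_eq_one (post jr (toConv (HopfAlgebra.antipode R))) h
  have hN := Algebra.norm_eq_of_algEquiv σ u
  rw [hσ, map_mul, Algebra.norm_algebraMap_of_basis bC] at hN
  have hone : i ^ Fintype.card (Module.Free.ChooseBasisIndex R A) = 1 :=
    (hu.map (Algebra.norm B)).mul_right_cancel (hN.trans (one_mul _).symm)
  rcases subsingleton_or_nontrivial R with h | h
  · have := Module.subsingleton R A
    exact WithConv.ext (AlgHom.ext fun a => Subsingleton.elim _ _)
  rw [← Module.finrank_eq_card_chooseBasisIndex] at hone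
  apply WithConv.ofConv_injective
  apply AlgHom.toLinearMap_injective
  apply WithConv.toConv_injective
  rw [AlgHom.toLinearMap_convPow, AlgHom.toLinearMap_convOne]
  exact hone

end Free

/-- **Deligne's theorem**: a commutative finite locally free group scheme is killed by its rank. -/
theorem pow_rank_eq_one_of_isCocomm [Coalgebra.IsCocomm R A] [Module.Finite R A] [Module.Projective R A]
    (n : ℕ) (hn : ∀ p : PrimeSpectrum R, Module.rankAtStalk A p = n) :
    (toConv (AlgHom.id R A)) ^ n = 1 := by
  apply WithConv.ofConv_injective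
  refine AlgHom.ext fun a => sub_eq_zero.1 (eq_zero_of_forall_localization (R := R) _ fun P hP => ?_)
  obtain ⟨hf, hr⟩ := rankAtStalk_localization (M := A) n hn (Localization.AtPrime P)
  rw [tmul_sub, sub_eq_zero, ← pow_zero (toConv (AlgHom.id R A)), FinHopf.includeRight_pow',
    FinHopf.includeRight_pow', pow_zero, ← hr, pow_eq_one_of_free]

end Groth.Agent.OTLib
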