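import Groth.Agent.OTLib.Present
import Groth.Agent.OTLib.Frame
import Mathlib.RingTheory.Bialgebra.MonoidAlgebra

/-!
# The Cartier dual, the group algebra, and the constants of the classification
-/

namespace Groth.Agent.OTLib

open TensorProduct WithConv Coalgebra

universe u

variable {R : Type u} [CommRing R] {A : Type u} [CommRing A] [HopfAlgebra R A]
variable {p : ℕ} [hp' : Fact p.Prime] {u : R} {χ : (ZMod p)ˣ →* Rˣ}

section Proj

omit hp' in
theorem aug_powConv (n : ℕ) (a : A) :
    aug (R := R) (SGA3b.powConv R A n a) = SGA3b.powConv R A n (aug (R := R) a) := by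
  rw [aug_apply, aug_apply, map_sub, AlgHom.commutes, counit_powConv]

variable (hid : toConv (AlgHom.id R A) ^ p = 1)
include hid

theorem proj_powConv (i : ℕ) (n : (ZMod p)ˣ) (a : A) :
    OortTate.proj R A p u χ i (SGA3b.powConv R A (n : ZMod p).val a) =
      ((χ n : Rˣ) : R) ^ i • OortTate.proj R A p u χ i a := by
  simp only [OortTate.proj, LinearMap.smul_apply, LinearMap.sum_apply, AlgHom.toLinearMap_apply]
  rw [smul_comm _ u]
  refine congrArg (u • ·) ?_
  rw [Finset.smul_sum]
  refine Fintype.sum_equiv (Equiv.mulRight n) _ _ fun m => ?_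
  rw [powConv_mul hid, Equiv.coe_mulRight, smul_smul, ← mul_pow, ← Units.val_mul, ← map_mul,
    mul_inv_rev, ← mul_assoc, mul_inv_cancel, one_mul]

theorem pr_powConv (i : ℕ) (n : (ZMod p)ˣ) (a : A) :
    pr u χ i hid (SGA3b.powConv R A (n : ZMod p).val a) = ((χ n : Rˣ) : R) ^ i • pr u χ i hid a :=
  Subtype.ext (by rw [pr_apply, aug_powConv, proj_powConv hid, Submodule.coe_smul, pr_apply])

end Proj

section DualEigen

variable [Module.Finite R A] [Module.Projective R A] [Coalgebra.IsCocomm R A]

omit hp' in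
theorem dual_powConv (n : ℕ) (φ : CartDual.D R A) (a : A) :
    SGA3b.powConv R (CartDual.D R A) n φ a = φ (SGA3b.powConv R A n a) := by
  induction n generalizing φ a with
  | zero => simp [SGA3b.powConv, Algebra.algebraMap_eq_smul_one, mul_comm]
  | succ n ih =>
    have key : ∀ z : CartDual.D R A ⊗[R] CartDual.D R A,
        (LinearMap.mul' R (CartDual.D R A) ((SGA3b.powConv R (CartDual.D R A) n).toLinearMap.rTensor _ z)).ofConv a =
          CartDual.ev₂ R A z ((SGA3b.powConv R A n).toLinearMap.rTensor A (comul (R := R) a)) := by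
      intro z
      induction z using TensorProduct.induction_on with
      | zero => simp
      | add x y hx hy => simp only [map_add, WithConv.ofConv_add, LinearMap.add_apply, hx, hy]
      | tmul x y =>
        rw [LinearMap.rTensor_tmul, LinearMap.mul'_apply, LinearMap.convMul_apply]
        generalize comul (R := R) a = w
        induction w using TensorProduct.induction_on with
        | zero => simp
        | add x y hx hy => simp only [map_add, hx, hy]
        | tmul b c => simp [ih]
    have h1 : ∀ {B : Type u} [CommRing B] [HopfAlgebra R B] (b : B), SGA3b.powConv R B (n + 1) b =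
        LinearMap.mul' R B ((SGA3b.powConv R B n).toLinearMap.rTensor B (comul (R := R) b)) := by
      intro B _ _ b
      rw [SGA3b.powConv, pow_succ, AlgHom.convMul_apply]
      generalize comul (R := R) b = w
      induction w using TensorProduct.induction_on with
      | zero => simp
      | add x y hx hy => simp only [map_add, hx, hy]
      | tmul b c => simp [SGA3b.powConv]
    rw [h1, h1, key]
    generalize (SGA3b.powConv R A n).toLinearMap.rTensor A (comul (R := R) a) = w
    induction w using TensorProduct.induction_on with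
    | zero => simp
    | add x y hx hy => simp only [map_add, hx, hy]
    | tmul b c => simp [CartDual.ev₂_coalgebra_comul_tmul]

set_option linter.unusedSectionVars false in
theorem mem_eigenAug_dual {i : ℕ} {φ : CartDual.D R A} :
    φ ∈ OortTate.eigenAug R (CartDual.D R A) p χ i ↔ φ 1 = 0 ∧
      ∀ (m : (ZMod p)ˣ) (a : A), φ (SGA3b.powConv R A (m : ZMod p).val a) = ((χ m : Rˣ) : R) ^ i * φ a := by
  rw [mem_eigenAug, CartDual.coalgebra_counit_apply]
  refine and_congr Iff.rfl (forall_congr' fun m => ⟨fun h a => ?_, fun h => WithConv.ext (LinearMap.ext fun a => ?_)⟩)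
  · rw [← dual_powConv, h]; rfl
  · exact (dual_powConv _ φ a).trans (h a)

variable (hid : toConv (AlgHom.id R A) ^ p = 1) (hu : u * ((p - 1 : ℕ) : R) = 1)

/-- A functional on an eigenspace as an element of the dual. -/
noncomputable def extendDual (u : R) (χ : (ZMod p)ˣ →* Rˣ) (i : ℕ) (hid : toConv (AlgHom.id R A) ^ p = 1)
    (ψ : OortTate.eigenAug R A p χ i →ₗ[R] R) : CartDual.D R A :=
  toConv (ψ ∘ₗ pr u χ i hid)

theorem extendDual_mem (i : ℕ) (ψ : OortTate.eigenAug R A p χ i →ₗ[R] R) :
    extendDual u χ i hid ψ ∈ OortTate.eigenAug R (CartDual.D R A) p χ i := by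
  refine mem_eigenAug_dual.2 ⟨?_, fun m a => ?_⟩
  · change ψ (pr u χ i hid 1) = 0
    rw [show pr u χ i hid 1 = 0 from Subtype.ext (by
      rw [pr_apply, aug_apply, Bialgebra.counit_one, map_one, sub_self, map_zero, Submodule.coe_zero]), map_zero]
  · change ψ (pr u χ i hid _) = _ * ψ (pr u χ i hid a)
    rw [pr_powConv, map_smul, smul_eq_mul]

include hu in
theorem dual_eigen_apply {i : ℕ} {φ : CartDual.D R A} (hφ : φ ∈ OortTate.eigenAug R (CartDual.D R A) p χ i)
    (a : A) : φ (pr u χ i hid a : A) = φ a := by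
  obtain ⟨h1, h2⟩ := mem_eigenAug_dual.1 hφ
  rw [pr_apply]
  simp only [OortTate.proj, LinearMap.smul_apply, LinearMap.sum_apply, AlgHom.toLinearMap_apply,
    map_smul, map_sum, h2, smul_eq_mul, ← mul_assoc, ← mul_pow, ← Units.val_mul, ← map_mul,
    inv_mul_cancel, map_one, Units.val_one, one_pow, one_mul, Finset.sum_const, Finset.card_univ,
    card_units_zmod, nsmul_eq_mul]
  rw [hu, one_mul, aug_apply, map_sub, Algebra.algebraMap_eq_smul_one, map_smul, h1,
    smul_zero, sub_zero]

include hu in
/-- Restriction identifies the eigenspace of the dual with the dual of the eigenspace. -/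
theorem dual_restrict_bijective (i : ℕ) (hid : toConv (AlgHom.id R A) ^ p = 1) :
    Function.Bijective (fun f : OortTate.eigenAug R (CartDual.D R A) p χ i =>
      ((CartDual.toDual R A) (f : CartDual.D R A)).comp (OortTate.eigenAug R A p χ i).subtype) := by
  refine ⟨fun f g h => Subtype.ext (WithConv.ext (LinearMap.ext fun a => ?_)),
    fun ψ => ⟨⟨extendDual u χ i hid ψ, extendDual_mem hid i ψ⟩, LinearMap.ext fun f => ?_⟩⟩
  · rw [← dual_eigen_apply hid hu f.2 a, ← dual_eigen_apply hid hu g.2 a]
    exact LinearMap.congr_fun h (pr u χ i hid a)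
  · change ψ (pr u χ i hid (f : A)) = ψ f
    rw [pr_of_mem hid hu f.2]

end DualEigen

section Group

/-- The group algebra. -/
local notation "G" => MonoidAlgebra R (Multiplicative (ZMod p))

theorem rankAtStalk_group (q : PrimeSpectrum R) : Module.rankAtStalk (R := R) G q = p := by
  have : Nontrivial R := q.nontrivial
  rw [Module.rankAtStalk_eq_finrank_of_free, Module.finrank_eq_card_basis (MonoidAlgebra.basis (Multiplicative (ZMod p)) R),
    Fintype.card_multiplicative, ZMod.card]
  rfl

set_option linter.unusedSectionVars false in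
theorem powConv_of {n : ℕ} (z : Multiplicative (ZMod p)) :
    SGA3b.powConv R G n (MonoidAlgebra.of R _ z) = MonoidAlgebra.of R _ z ^ n := by
  induction n with
  | zero => simp [SGA3b.powConv, MonoidAlgebra.one_def]
  | succ n ih =>
    rw [SGA3b.powConv, pow_succ, AlgHom.convMul_apply]
    simp only [MonoidAlgebra.of_apply, MonoidAlgebra.comul_single, CommSemiring.comul_apply,
      TensorProduct.map_tmul, Algebra.TensorProduct.lift_tmul, AlgHom.id_apply]
    rw [pow_succ, ← MonoidAlgebra.of_apply]
    congr 1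

variable (u χ) in
/-- The generator of an eigenspace of the group algebra. -/
noncomputable abbrev ygen (i : ℕ) : G := OortTate.ygen R p u χ i

set_option linter.unusedSectionVars false in
theorem counit_of (z : Multiplicative (ZMod p)) : counit (R := R) (MonoidAlgebra.of R _ z) = 1 := by
  simp [MonoidAlgebra.of_apply]

theorem pr_of_group (i : ℕ) (z : Multiplicative (ZMod p)) (hid : toConv (AlgHom.id R G) ^ p = 1) :
    ∃ c : R, (pr u χ i hid (MonoidAlgebra.of R _ z) : G) = c • ygen u χ i := by
  rw [pr_apply, aug_apply, counit_of, map_one]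
  by_cases hz : Multiplicative.toAdd z = 0
  · refine ⟨0, ?_⟩
    rw [show z = 1 from hz, map_one, sub_self, map_zero, zero_smul]
  · refine ⟨((χ (Units.mk0 _ hz) : Rˣ) : R) ^ i, ?_⟩
    rw [ygen, OortTate.ygen, ← proj_powConv hid]
    congr 1
    rw [map_sub, map_one, OortTate.muT, powConv_of, ← map_pow]
    congr 2
    rw [← ofAdd_nsmul, nsmul_one, Units.val_mk0, ZMod.natCast_zmod_val]
    rfl

theorem ygen_mem (i : ℕ) (hid : toConv (AlgHom.id R G) ^ p = 1) :
    ygen u χ i ∈ OortTate.eigenAug R G p χ i :=
  proj_mem hid i (by rw [map_sub, OortTate.muT, counit_of, Bialgebra.counit_one, sub_self])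

theorem span_ygen (hu : u * ((p - 1 : ℕ) : R) = 1) (i : ℕ) (hid : toConv (AlgHom.id R G) ^ p = 1) :
    Submodule.span R {ygen u χ i} = OortTate.eigenAug R G p χ i := by
  refine le_antisymm (Submodule.span_le.2 (Set.singleton_subset_iff.2 (ygen_mem i hid))) fun f hf => ?_
  suffices ∀ g : G, (pr u χ i hid g : G) ∈ Submodule.span R {ygen u χ i} by
    have h := this f
    rwa [pr_of_mem hid hu hf] at h
  intro f
  induction f using MonoidAlgebra.induction_on with
  | of z => obtain ⟨c, hc⟩ := pr_of_group i z hid; exact Submodule.mem_span_singleton.2 ⟨c, hc.symm⟩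
  | add a b ha hb => rw [map_add, Submodule.coe_add]; exact add_mem ha hb
  | smul r a ha => rw [map_smul, Submodule.coe_smul]; exact Submodule.smul_mem _ r ha

variable (hu : u * ((p - 1 : ℕ) : R) = 1)
  (hχ : ∀ m : (ZMod p)ˣ, m ≠ 1 → IsUnit ((χ m : R) - 1))
  (hχp : ∀ m : (ZMod p)ˣ, ((χ m : Rˣ) : R) - (((m : ZMod p).val : ℕ) : R) ∈ Ideal.span ({(p : R)} : Set R))
include hu hχ hχp

theorem ygen_smul_eq_zero (i : ℕ) {r : R} (hr : r • ygen u χ i = 0) : r = 0 := by
  have hrk := rankAtStalk_group (R := R) (p := p)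
  have hid := pow_prime_eq_one hrk
  have := finite_eigenAug (χ := χ) hid hu i
  have := projective_eigenAug (χ := χ) hid hu i
  refine eq_zero_of_smul_eq_zero (rankAtStalk_eigenAug hu hχ hχp hrk i) fun f => Subtype.ext ?_
  obtain ⟨c, hc⟩ := Submodule.mem_span_singleton.1 ((span_ygen hu i hid).ge f.2)
  rw [Submodule.coe_smul, ← hc, smul_comm, hr, smul_zero, Submodule.coe_zero]

theorem exists_w : ∃ w : ℕ → Rˣ, ∀ t, 1 ≤ t → t ≤ p - 1 → ygen u χ 1 ^ t = (w t : R) • ygen u χ t := by
  have hrk := rankAtStalk_group (R := R) (p := p)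
  have hid := pow_prime_eq_one hrk
  have key : ∀ t, 1 ≤ t → t ≤ p - 1 → ∃ w : Rˣ, ygen u χ 1 ^ t = (w : R) • ygen u χ t := by
    intro t ht ht'
    have hmem : ygen u χ 1 ^ t ∈ OortTate.eigenAug R G p χ t :=
      pow_le_eigenAug t ht (Submodule.pow_mem_pow _ (ygen_mem 1 hid) t)
    obtain ⟨r, hr⟩ := Submodule.mem_span_singleton.1 ((span_ygen hu t hid).ge hmem)
    have hy : ygen u χ t ∈ Submodule.span R {ygen u χ 1} ^ t := by
      rw [span_ygen hu 1 hid, eigenAug_pow_eq hu hχ hχp hrk ht ht']
      exact ygen_mem t hid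
    rw [Submodule.span_pow, Set.singleton_pow, Submodule.mem_span_singleton] at hy
    obtain ⟨c, hc⟩ := hy
    have h1 : c * r = 1 := by
      refine sub_eq_zero.1 (ygen_smul_eq_zero hu hχ hχp t ?_)
      rw [sub_smul, one_smul, mul_smul, hr, hc, sub_self]
    exact ⟨⟨r, c, by rw [mul_comm, h1], h1⟩, hr.symm⟩
  classical
  refine ⟨fun t => if h : 1 ≤ t ∧ t ≤ p - 1 then (key t h.1 h.2).choose else 1, fun t ht ht' => ?_⟩
  simp only [dif_pos (And.intro ht ht')]
  exact (key t ht ht').choose_spec

end Group

end Groth.Agent.OTLib
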