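import Groth.Agent.OTLib.Dual

/-!
# The convolution algebra of endomorphisms and the pairing formula
-/

namespace Groth.Agent.OTLib

open TensorProduct WithConv Coalgebra

universe u

variable {R : Type u} [CommRing R] {A : Type u} [CommRing A] [HopfAlgebra R A]
  [Coalgebra.IsCocomm R A]
variable {p : ℕ} [hp' : Fact p.Prime] {u : R} {χ : (ZMod p)ˣ →* Rˣ}

section Theta

omit hp' [Coalgebra.IsCocomm R A] in
theorem mul_cst (f : WithConv (A →ₗ[R] A)) (b c : A) :
    (f * toConv (LinearMap.toSpanSingleton R A b ∘ₗ counit (R := R)) : WithConv (A →ₗ[R] A)).ofConv c =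
      f c * b := by
  rw [(ℛ R c).convMul_apply]
  simp only [LinearMap.coe_comp, Function.comp_apply,
    LinearMap.toSpanSingleton_apply, mul_smul_comm]
  have h : ∑ i ∈ (ℛ R c).index, counit (R := R) ((ℛ R c).right i) • (ℛ R c).left i = c := by
    have h := congrArg (TensorProduct.rid R A) (sum_tmul_counit_eq (R := R) (ℛ R c))
    simp only [map_sum, TensorProduct.rid_tmul, one_smul] at h
    exact h
  conv_rhs => rw [← h, map_sum, Finset.sum_mul]
  exact Finset.sum_congr rfl fun i _ => by rw [map_smul, smul_mul_assoc]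

/-- The constant maps. -/
noncomputable def cst : A →ₐ[R] WithConv (A →ₗ[R] A) :=
  AlgHom.ofLinearMap
    { toFun := fun a => toConv (LinearMap.toSpanSingleton R A a ∘ₗ counit (R := R))
      map_add' := fun a b => WithConv.ext (LinearMap.ext fun c => by simp)
      map_smul' := fun r a => WithConv.ext (LinearMap.ext fun c => by simp [smul_comm r]) }
    (WithConv.ext (LinearMap.ext fun c => by simp [Algebra.algebraMap_eq_smul_one]))
    (fun a b => WithConv.ext (LinearMap.ext fun c => by
      change _ = ((toConv (LinearMap.toSpanSingleton R A a ∘ₗ counit (R := R))) *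
        toConv (LinearMap.toSpanSingleton R A b ∘ₗ counit (R := R)) : WithConv (A →ₗ[R] A)).ofConv c
      rw [mul_cst]
      simp))

/-- `A ⊗ D → End A`, `a ⊗ φ ↦ φ(·) a`, multiplicative for the convolution product. -/
noncomputable def theta : A ⊗[R] CartDual.D R A →ₐ[R] WithConv (A →ₗ[R] A) :=
  Algebra.TensorProduct.lift cst
    { post (A := A) (Algebra.ofId R A) with
      commutes' := fun r => WithConv.ext (LinearMap.ext fun a => by
        simp [post, Algebra.algebraMap_eq_smul_one, smul_smul]) }
    fun _ _ => Commute.all _ _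

omit hp' in
theorem theta_tmul (a : A) (φ : CartDual.D R A) (c : A) :
    theta (a ⊗ₜ[R] φ) c = φ c • a := by
  rw [theta, Algebra.TensorProduct.lift_tmul, mul_comm]
  change (post (Algebra.ofId R A) φ * toConv (LinearMap.toSpanSingleton R A a ∘ₗ counit (R := R))).ofConv c = _
  rw [mul_cst, Algebra.smul_def]
  rfl

omit hp' in
theorem theta_injective [Module.Finite R A] [Module.Projective R A] :
    Function.Injective (theta (R := R) (A := A)) := by
  obtain ⟨n, a, φ, hframe⟩ := exists_dualFrame R A
  refine Function.LeftInverse.injective (g := fun f => ∑ i, f (a i) ⊗ₜ[R] toConv (φ i)) fun z => ?_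
  induction z using TensorProduct.induction_on with
  | zero => simp
  | add y y' hy hy' =>
    simp only [map_add, WithConv.ofConv_add, LinearMap.add_apply, add_tmul, Finset.sum_add_distrib] at hy hy' ⊢
    rw [hy, hy']
  | tmul x ψ =>
    simp only [theta_tmul, smul_tmul, ← tmul_sum]
    congr 1
    refine WithConv.ext (LinearMap.ext fun c => ?_)
    simp only [WithConv.ofConv_sum, LinearMap.sum_apply, WithConv.ofConv_smul,
      LinearMap.smul_apply, smul_eq_mul]
    conv_rhs => rw [← hframe c, map_sum]
    exact Finset.sum_congr rfl fun i _ => by rw [map_smul, smul_eq_mul, mul_comm]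

end Theta

variable [Module.Finite R A] [Module.Projective R A]
variable (hid : toConv (AlgHom.id R A) ^ p = 1)

/-- The projection onto an eigenspace in the convolution algebra. -/
noncomputable def proje (u : R) (χ : (ZMod p)ˣ →* Rˣ) (i : ℕ) (hid : toConv (AlgHom.id R A) ^ p = 1) :
    WithConv (A →ₗ[R] A) :=
  toConv ((OortTate.eigenAug R A p χ i).subtype ∘ₗ pr u χ i hid)

omit [Coalgebra.IsCocomm R A] [Module.Finite R A] [Module.Projective R A] in
theorem proje_apply (i : ℕ) (a : A) : proje u χ i hid a = (pr u χ i hid a : A) := rfl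

/-- The universal point as a homomorphism from the group algebra. -/
noncomputable def univHom (hid : toConv (AlgHom.id R A) ^ p = 1) :
    MonoidAlgebra R (Multiplicative (ZMod p)) →ₐ[R] WithConv (A →ₗ[R] A) :=
  MonoidAlgebra.lift R (WithConv (A →ₗ[R] A)) (Multiplicative (ZMod p))
    { toFun := fun z => (toConv LinearMap.id : WithConv (A →ₗ[R] A)) ^ (Multiplicative.toAdd z).val
      map_one' := by simp
      map_mul' := fun y z => by
        have h1 : (toConv LinearMap.id : WithConv (A →ₗ[R] A)) ^ p = 1 := by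
          have h := congrArg (fun f : WithConv (A →ₐ[R] A) => toConv f.ofConv.toLinearMap) hid
          rwa [AlgHom.toLinearMap_convPow, AlgHom.toLinearMap_convOne] at h
        rw [toAdd_mul, ZMod.val_add, ← pow_eq_pow_mod _ h1, pow_add] }

set_option linter.unusedSectionVars false in
omit [Module.Finite R A] [Module.Projective R A] in
theorem univHom_of (z : Multiplicative (ZMod p)) :
    univHom hid (MonoidAlgebra.of R _ z) =
      toConv (SGA3b.powConv R A (Multiplicative.toAdd z).val).toLinearMap := by
  rw [univHom, MonoidAlgebra.lift_of, SGA3b.powConv, AlgHom.toLinearMap_convPow]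
  rfl

omit [Module.Finite R A] [Module.Projective R A] in
theorem univHom_muT : univHom hid (OortTate.muT R p) = toConv LinearMap.id := by
  rw [OortTate.muT, univHom_of, toAdd_ofAdd, ZMod.val_one]
  exact WithConv.ext (LinearMap.ext fun a => powConv_one a)

omit [Module.Finite R A] [Module.Projective R A] in
theorem univHom_unique (ψ : MonoidAlgebra R (Multiplicative (ZMod p)) →ₐ[R] WithConv (A →ₗ[R] A))
    (h : ψ (OortTate.muT R p) = toConv LinearMap.id) : ψ = univHom hid := by
  refine MonoidAlgebra.algHom_ext (fun z => ?_) (by ext)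
  rw [← MonoidAlgebra.of_apply]
  have hz : z = Multiplicative.ofAdd (1 : ZMod p) ^ (Multiplicative.toAdd z).val := by
    rw [← ofAdd_nsmul, nsmul_one, ZMod.natCast_zmod_val]
    rfl
  rw [hz, map_pow, map_pow, map_pow]
  rw [show MonoidAlgebra.of R _ (Multiplicative.ofAdd (1 : ZMod p)) = OortTate.muT R p from rfl, h,
    univHom_muT]

omit [Module.Finite R A] [Module.Projective R A] in
theorem univHom_ygen (i : ℕ) : univHom hid (ygen u χ i) = proje u χ i hid := by
  refine WithConv.ext (LinearMap.ext fun a => ?_)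
  change _ = (pr u χ i hid a : A)
  rw [pr_apply, ygen, OortTate.ygen]
  simp only [OortTate.proj, LinearMap.smul_apply, LinearMap.sum_apply, AlgHom.toLinearMap_apply,
    map_smul, map_sum, map_sub, map_one, OortTate.muT, powConv_of, ← map_pow, univHom_of,
    WithConv.ofConv_smul, WithConv.ofConv_sum, WithConv.ofConv_sub]
  simp only [LinearMap.smul_apply, LinearMap.sum_apply, LinearMap.sub_apply]
  rw [← smul_sub, ← Finset.sum_sub_distrib]
  simp only [← smul_sub]
  refine congrArg (fun z : A => u • z) (Finset.sum_congr rfl fun m _ => congrArg _ ?_)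
  rw [← ofAdd_nsmul, nsmul_one, toAdd_ofAdd, ZMod.natCast_zmod_val, aug_apply, map_sub, AlgHom.commutes]
  rfl

variable (hu : u * ((p - 1 : ℕ) : R) = 1)
  (hχ : ∀ m : (ZMod p)ˣ, m ≠ 1 → IsUnit ((χ m : R) - 1))
  (hχp : ∀ m : (ZMod p)ˣ, ((χ m : Rˣ) : R) - (((m : ZMod p).val : ℕ) : R) ∈ Ideal.span ({(p : R)} : Set R))
  (hrk : ∀ q : PrimeSpectrum R, Module.rankAtStalk A q = p)
include hu hχ hχp hrk

theorem theta_tmul_eigen (x : OortTate.eigenAug R A p χ 1)
    (φ : OortTate.eigenAug R (CartDual.D R A) p χ 1) :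
    theta ((x : A) ⊗ₜ[R] (φ : CartDual.D R A)) = (φ : CartDual.D R A) (x : A) • proje u χ 1 hid := by
  have := finite_eigenAug (χ := χ) hid hu 1
  have := projective_eigenAug (χ := χ) hid hu 1
  refine WithConv.ext (LinearMap.ext fun a => ?_)
  rw [theta_tmul, ← dual_eigen_apply hid hu φ.2 a]
  have h := congrArg Subtype.val (dual_swap (rankAtStalk_eigenAug hu hχ hχp hrk 1)
    ((φ : CartDual.D R A).ofConv ∘ₗ (OortTate.eigenAug R A p χ 1).subtype) x (pr u χ 1 hid a))
  exact h

/-- **The pairing formula**: on products of `t` elements the pairing is `w t` times the product of pairings. -/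
theorem pairing_prod {t : ℕ} (ht : 1 ≤ t) (ht' : t ≤ p - 1) {w : ℕ → Rˣ}
    (hw : ∀ t, 1 ≤ t → t ≤ p - 1 → ygen u χ 1 ^ t = (w t : R) • ygen u χ t)
    (φ : Fin t → OortTate.eigenAug R (CartDual.D R A) p χ 1) (x : Fin t → OortTate.eigenAug R A p χ 1) :
    (∏ i, (φ i : CartDual.D R A)) (∏ i, (x i : A)) =
      (w t : R) * ∏ i, (φ i : CartDual.D R A) (x i : A) := by
  have hid := pow_prime_eq_one hrk
  have := finite_eigenAug (χ := χ) hid hu t
  have := projective_eigenAug (χ := χ) hid hu t
  have hpow : proje u χ 1 hid ^ t = (w t : R) • proje u χ t hid := by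
    rw [← univHom_ygen, ← map_pow, hw t ht ht', map_smul, univHom_ygen]
  have hprod : ∀ a, (∏ i, (φ i : CartDual.D R A)) a • ∏ i, (x i : A) =
      ((w t : R) * ∏ i, (φ i : CartDual.D R A) (x i : A)) • (pr u χ t hid a : A) := by
    intro a
    rw [← theta_tmul, ← proje_apply]
    have h1 : theta ((∏ i, (x i : A)) ⊗ₜ[R] (∏ i, (φ i : CartDual.D R A))) =
        ∏ i, theta ((x i : A) ⊗ₜ[R] (φ i : CartDual.D R A)) := by
      simp only [theta, Algebra.TensorProduct.lift_tmul]
      rw [Finset.prod_mul_distrib, map_prod]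
      congr 1
      exact map_prod (post (A := A) (Algebra.ofId R A)) _ _
    rw [h1, Finset.prod_congr rfl fun i _ => theta_tmul_eigen hid hu hχ hχp hrk (x i) (φ i),
      Finset.prod_smul, Finset.prod_const, Finset.card_univ, Fintype.card_fin, hpow, smul_smul,
      mul_comm]
    rfl
  have hX : ∏ i, (x i : A) ∈ OortTate.eigenAug R A p χ t := by
    refine pow_le_eigenAug t ht ?_
    rw [← List.prod_ofFn]
    exact Submodule.pow_subset_pow _ (Set.mem_pow.2 ⟨fun i => ⟨_, (x i).2⟩, rfl⟩)
  refine sub_eq_zero.1 (eq_zero_of_smul_eq_zero (rankAtStalk_eigenAug hu hχ hχp hrk t) fun y => Subtype.ext ?_)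
  have h := hprod y
  rw [pr_of_mem hid hu y.2] at h
  have h2 := congrArg Subtype.val (dual_swap (rankAtStalk_eigenAug hu hχ hχp hrk t)
    ((∏ i, (φ i : CartDual.D R A)).ofConv ∘ₗ (OortTate.eigenAug R A p χ t).subtype) ⟨_, hX⟩ y)
  simp only [LinearMap.comp_apply, Submodule.subtype_apply, Submodule.coe_smul] at h2
  rw [Submodule.coe_smul, sub_smul, ← h, h2, sub_self, Submodule.coe_zero]

end Groth.Agent.OTLib
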