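import Groth.Agent.OTLib.Rank
import Mathlib.LinearAlgebra.TensorAlgebra.Basic
import Mathlib.RingTheory.Flat.LocallyFree

/-!
# The presentation of a group scheme of prime order
-/

namespace Groth.Agent.OTLib

open TensorProduct WithConv Coalgebra Pointwise

universe u

variable {R : Type u} [CommRing R] {A : Type u} [CommRing A] [HopfAlgebra R A]
variable {p : ℕ} [hp' : Fact p.Prime] {u : R} {χ : (ZMod p)ˣ →* Rˣ}
variable [Module.Finite R A] [Module.Projective R A]
  (hu : u * ((p - 1 : ℕ) : R) = 1)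
  (hχ : ∀ m : (ZMod p)ˣ, m ≠ 1 → IsUnit ((χ m : R) - 1))
  (hχp : ∀ m : (ZMod p)ˣ, ((χ m : Rˣ) : R) - (((m : ZMod p).val : ℕ) : R) ∈ Ideal.span ({(p : R)} : Set R))
  (hrk : ∀ q : PrimeSpectrum R, Module.rankAtStalk A q = p)

set_option linter.unusedVariables false in
/-- Multiplication of consecutive eigenspaces. -/
noncomputable def mulEigen (i j : ℕ) :
    OortTate.eigenAug R A p χ i ⊗[R] OortTate.eigenAug R A p χ j →ₗ[R] OortTate.eigenAug R A p χ (i + j) :=
  TensorProduct.lift (LinearMap.mk₂ R (fun x y => ⟨(x : A) * y, mul_mem_eigenAug x.2 y.2⟩)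
    (fun x x' y => Subtype.ext (add_mul _ _ _)) (fun c x y => Subtype.ext (smul_mul_assoc _ _ _))
    (fun x y y' => Subtype.ext (mul_add _ _ _)) (fun c x y => Subtype.ext (mul_smul_comm _ _ _)))

omit [Module.Finite R A] [Module.Projective R A] in
@[simp] theorem mulEigen_tmul (i j : ℕ) (x : OortTate.eigenAug R A p χ i) (y : OortTate.eigenAug R A p χ j) :
    (mulEigen i j (x ⊗ₜ[R] y) : A) = (x : A) * y := rfl

include hu hχ hχp hrk

theorem mulEigen_bijective {t : ℕ} (ht : 1 ≤ t) (ht' : t + 1 ≤ p - 1) :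
    Function.Bijective (mulEigen (R := R) (A := A) (p := p) (χ := χ) t 1) := by
  have hid := pow_prime_eq_one hrk
  have := fun i => finite_eigenAug (χ := χ) hid hu i
  have := fun i => projective_eigenAug (χ := χ) hid hu i
  refine Module.bijective_of_surjective_of_rankAtStalk_eq
    (R := R) (M := OortTate.eigenAug R A p χ t ⊗[R] OortTate.eigenAug R A p χ 1)
    (N := OortTate.eigenAug R A p χ (t + 1))
    (φ := mulEigen (R := R) (A := A) (p := p) (χ := χ) t 1) (fun f => ?_) fun m hm => ?_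
  · have hf : (f : A) ∈ OortTate.eigenAug R A p χ t * OortTate.eigenAug R A p χ 1 := by
      rw [← eigenAug_pow_eq hu hχ hχp hrk ht (by omega), ← pow_succ,
        eigenAug_pow_eq hu hχ hχp hrk (by omega) ht']
      exact f.2
    suffices ∀ a ∈ OortTate.eigenAug R A p χ t * OortTate.eigenAug R A p χ 1,
        ∃ z, (mulEigen (R := R) (A := A) (p := p) (χ := χ) t 1 z : A) = a by
      obtain ⟨z, hz⟩ := this f hf
      exact ⟨z, Subtype.ext hz⟩
    intro a ha
    refine Submodule.mul_induction_on ha (fun x hx y hy => ⟨⟨x, hx⟩ ⊗ₜ ⟨y, hy⟩, rfl⟩) ?_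
    rintro a b ⟨z, rfl⟩ ⟨w, rfl⟩
    exact ⟨z + w, by rw [map_add, Submodule.coe_add]⟩
  · rw [Module.rankAtStalk_tensorProduct]
    simp [rankAtStalk_eigenAug hu hχ hχp hrk]

omit hu hχ hχp hrk in
/-- The relations of the presentation. -/
def rels (p : ℕ) [Fact p.Prime] (χ : (ZMod p)ˣ →* Rˣ) : Set (TensorAlgebra R (OortTate.eigenAug R A p χ 1)) :=
  {x | ∃ (f : Fin p → OortTate.eigenAug R A p χ 1) (g : OortTate.eigenAug R A p χ 1),
    (g : A) = ∏ i, (f i : A) ∧
    x = (List.ofFn fun i => TensorAlgebra.ι R (f i)).prod - TensorAlgebra.ι R g}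

local notation "I₁" => OortTate.eigenAug R A p χ 1
local notation "Φ" => TensorAlgebra.lift R (Submodule.subtype I₁)

set_option linter.unusedSectionVars false in
omit hu hχ hχp hrk [Module.Finite R A] [Module.Projective R A] in
theorem map_pow_range (t : ℕ) :
    Submodule.map (Φ).toLinearMap (LinearMap.range (TensorAlgebra.ι R (M := I₁)) ^ t) = I₁ ^ t := by
  rw [Submodule.map_pow, ← LinearMap.range_comp]
  congr 1
  rw [TensorAlgebra.ι_comp_lift, Submodule.range_subtype]

theorem injOn_pow_range {t : ℕ} (ht : 1 ≤ t) (ht' : t ≤ p - 1) :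
    ∀ w ∈ LinearMap.range (TensorAlgebra.ι R (M := I₁)) ^ t, Φ w = 0 → w = 0 := by
  induction t, ht using Nat.le_induction with
  | base =>
    intro w hw h0
    rw [pow_one] at hw
    obtain ⟨x, rfl⟩ := hw
    rw [TensorAlgebra.lift_ι_apply, Submodule.subtype_apply] at h0
    rw [Subtype.ext h0 (a1 := x) (a2 := 0), map_zero]
  | succ t ht ih =>
    have ih := ih (by omega)
    let P := LinearMap.range (TensorAlgebra.ι R (M := I₁)) ^ t
    let e : P →ₗ[R] OortTate.eigenAug R A p χ t :=
      LinearMap.codRestrict _ ((Φ).toLinearMap ∘ₗ P.subtype) fun w => by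
        rw [← eigenAug_pow_eq hu hχ hχp hrk ht (by omega), ← map_pow_range]
        exact ⟨w, w.2, rfl⟩
    have he : Function.Bijective e := by
      refine ⟨(injective_iff_map_eq_zero e).2 fun w hw => Subtype.ext (ih w w.2 (congrArg Subtype.val hw)),
        fun f => ?_⟩
      have hf : (f : A) ∈ Submodule.map (Φ).toLinearMap P := by
        rw [map_pow_range, eigenAug_pow_eq hu hχ hχp hrk ht (by omega)]
        exact f.2
      obtain ⟨w, hw, hwf⟩ := hf
      exact ⟨⟨w, hw⟩, Subtype.ext hwf⟩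
    let E := LinearEquiv.ofBijective e he
    let μ : P ⊗[R] I₁ →ₗ[R] TensorAlgebra R I₁ :=
      TensorProduct.lift (LinearMap.mk₂ R (fun w x => (w : TensorAlgebra R I₁) * TensorAlgebra.ι R x)
        (fun w w' x => by simp [add_mul]) (fun c w x => by simp)
        (fun w x x' => by simp [mul_add]) (fun c w x => by simp))
    have hμ : ∀ z, Φ (μ z) = (mulEigen t 1 (E.toLinearMap.rTensor I₁ z) : A) := by
      intro z
      induction z using TensorProduct.induction_on with
      | zero => simp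
      | add a b ha hb => simp only [map_add, Submodule.coe_add, ha, hb]
      | tmul w x =>
        rw [LinearMap.rTensor_tmul, mulEigen_tmul]
        change Φ ((w : TensorAlgebra R I₁) * TensorAlgebra.ι R x) = _
        rw [map_mul, TensorAlgebra.lift_ι_apply]
        rfl
    intro w hw h0
    rw [pow_succ] at hw
    obtain ⟨z, rfl⟩ : w ∈ LinearMap.range μ := by
      refine Submodule.mul_induction_on hw ?_ fun a b ha hb => add_mem ha hb
      rintro a ha _ ⟨x, rfl⟩
      exact ⟨⟨a, ha⟩ ⊗ₜ x, rfl⟩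
    rw [hμ] at h0
    have hz : E.toLinearMap.rTensor I₁ z = 0 :=
      (mulEigen_bijective hu hχ hχp hrk ht ht').1 ((Subtype.ext (h0.trans rfl)).trans (map_zero _).symm)
    have : Function.Injective (E.toLinearMap.rTensor I₁) := (E.rTensor I₁).injective
    rw [this (hz.trans (map_zero _).symm), map_zero]

omit hu hχ hχp hrk [Module.Finite R A] [Module.Projective R A] in
theorem span_rels_le_ker : Ideal.span (rels (A := A) p χ) ≤ RingHom.ker (Φ) := by
  refine Ideal.span_le.2 ?_
  rintro _ ⟨f, g, hfg, rfl⟩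
  rw [SetLike.mem_coe, RingHom.mem_ker, map_sub, map_list_prod, List.map_ofFn,
    TensorAlgebra.lift_ι_apply, sub_eq_zero, Submodule.subtype_apply, hfg, ← List.prod_ofFn]
  congr 1
  exact congrArg List.ofFn (funext fun i => by simp)

set_option linter.unusedSectionVars false in
omit hu hχ hχp hrk [Module.Finite R A] [Module.Projective R A] in
theorem mem_of_closed (W : Submodule R (TensorAlgebra R I₁))
    (h : ∀ n, LinearMap.range (TensorAlgebra.ι R (M := I₁)) ^ n ≤ W) (a : TensorAlgebra R I₁) : a ∈ W := by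
  suffices a ∈ ⨆ n : ℕ, LinearMap.range (TensorAlgebra.ι R (M := I₁)) ^ n from iSup_le h this
  induction a using TensorAlgebra.induction with
  | algebraMap r =>
    refine Submodule.mem_iSup_of_mem 0 ?_
    rw [pow_zero, Submodule.mem_one]
    exact ⟨r, rfl⟩
  | ι x =>
    refine Submodule.mem_iSup_of_mem 1 ?_
    rw [pow_one]
    exact ⟨x, rfl⟩
  | add a b ha hb => exact add_mem ha hb
  | mul a b ha hb =>
    refine (?_ : (⨆ n : ℕ, LinearMap.range (TensorAlgebra.ι R (M := I₁)) ^ n) *
      (⨆ n : ℕ, LinearMap.range (TensorAlgebra.ι R (M := I₁)) ^ n) ≤ _) (Submodule.mul_mem_mul ha hb)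
    simp only [Submodule.iSup_mul, Submodule.mul_iSup, ← pow_add]
    exact iSup_le fun i => iSup_le fun j => le_iSup (fun n => LinearMap.range (TensorAlgebra.ι R (M := I₁)) ^ n) _

omit hu hχ hχp hrk [Module.Finite R A] [Module.Projective R A] in
theorem mem_reduced (a : TensorAlgebra R I₁) :
    a ∈ (Ideal.span (rels (A := A) p χ)).restrictScalars R ⊔
      ⨆ t ∈ Finset.range p, LinearMap.range (TensorAlgebra.ι R (M := I₁)) ^ t := by
  set J := (Ideal.span (rels (A := A) p χ)).restrictScalars R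
  set L := LinearMap.range (TensorAlgebra.ι R (M := I₁))
  set W := J ⊔ ⨆ t ∈ Finset.range p, L ^ t
  have hp2 := hp'.out.two_le
  have hlow : ∀ t < p, L ^ t ≤ W := fun t ht => le_sup_of_le_right
    (le_iSup₂ (f := fun t (_ : t ∈ Finset.range p) => L ^ t) t (Finset.mem_range.2 ht))
  have hP : L ^ p ≤ J ⊔ L := by
    intro x hx
    have hspan : L ^ p = Submodule.span R ((Set.range (TensorAlgebra.ι R (M := I₁))) ^ p) := by
      rw [← Submodule.span_pow, ← LinearMap.coe_range, Submodule.span_eq]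
    rw [hspan] at hx
    refine Submodule.span_le.2 ?_ hx
    intro y hy
    obtain ⟨f, rfl⟩ := Set.mem_pow.1 hy
    choose x' hx' using fun i => (f i).2
    have hmem : ∏ i, (x' i : A) ∈ I₁ := by
      have h1 : ∏ i, (x' i : A) ∈ I₁ ^ p := by
        rw [← List.prod_ofFn]
        exact Submodule.pow_subset_pow _ (Set.mem_pow.2 ⟨fun i => ⟨_, (x' i).2⟩, rfl⟩)
      have h2 := pow_le_eigenAug p (by omega) h1
      rwa [eigenAug_mod, show p % (p - 1) = 1 % (p - 1) by
        rw [show p = 1 + (p - 1) by omega]; simp, ← eigenAug_mod] at h2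
    rw [show (List.ofFn fun i => ((f i : TensorAlgebra R I₁))).prod =
      ((List.ofFn fun i => TensorAlgebra.ι R (x' i)).prod - TensorAlgebra.ι R ⟨_, hmem⟩) +
        TensorAlgebra.ι R ⟨_, hmem⟩ by
      rw [sub_add_cancel]; simp only [hx']]
    exact Submodule.add_mem_sup (Ideal.subset_span ⟨x', ⟨_, hmem⟩, rfl, rfl⟩) ⟨_, rfl⟩
  refine mem_of_closed W (fun n => ?_) a
  induction n using Nat.strong_induction_on with
  | _ n ih =>
    rcases lt_or_ge n p with hn | hn
    · exact hlow n hn
    · rw [show n = (n - p) + p by omega, pow_add]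
      refine (mul_le_mul' le_rfl hP).trans ?_
      rw [Submodule.mul_sup, ← pow_succ]
      refine sup_le (Submodule.mul_le.2 fun x _ y hy => ?_) (ih _ (by omega))
      exact Submodule.mem_sup_left (Ideal.mul_mem_left _ _ hy)

theorem lift_surjective : Function.Surjective (Φ) := by
  intro a
  have hid := pow_prime_eq_one hrk
  rw [← sum_pr hid hu hχ a]
  have h : ∀ (i : ℕ) (f : A), f ∈ OortTate.eigenAug R A p χ i → f ∈ (Φ).range := by
    intro i f hf
    have hp2 := hp'.out.two_le
    obtain ⟨t, ht, ht', hmod⟩ : ∃ t, 1 ≤ t ∧ t ≤ p - 1 ∧ i % (p - 1) = t % (p - 1) := by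
      by_cases h : i % (p - 1) = 0
      · exact ⟨p - 1, by omega, le_rfl, by rw [h, Nat.mod_self]⟩
      · exact ⟨i % (p - 1), Nat.pos_of_ne_zero h, (Nat.mod_lt _ (by omega)).le, (Nat.mod_mod _ _).symm⟩
    rw [eigenAug_mod, hmod, ← eigenAug_mod, ← eigenAug_pow_eq hu hχ hχp hrk ht ht', ← map_pow_range] at hf
    obtain ⟨w, -, rfl⟩ := hf
    exact ⟨w, rfl⟩
  obtain ⟨w, hw⟩ := add_mem ((Φ).range.algebraMap_mem (counit (R := R) a))
    (sum_mem (t := Finset.range (p - 1)) fun i _ => h i _ (pr u χ i hid a).2)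
  exact ⟨w, hw⟩

theorem ker_lift : RingHom.ker (Φ) = Ideal.span (rels (A := A) p χ) := by
  refine le_antisymm (fun y hy => ?_) span_rels_le_ker
  have hid := pow_prime_eq_one hrk
  obtain ⟨j, hj, s, hs, rfl⟩ := Submodule.mem_sup.1 (mem_reduced (A := A) (χ := χ) y)
  obtain ⟨μ, rfl⟩ := (Submodule.mem_iSup_finset_iff_exists_sum _ _).1 hs
  have h0 : ∑ t ∈ Finset.range p, Φ (μ t : TensorAlgebra R I₁) = 0 := by
    rw [RingHom.mem_ker, map_add, RingHom.mem_ker.1 (span_rels_le_ker hj), zero_add, map_sum] at hy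
    exact hy
  have hmem : ∀ t, 1 ≤ t → t ≤ p - 1 → Φ (μ t : TensorAlgebra R I₁) ∈ OortTate.eigenAug R A p χ t :=
    fun t ht ht' => by
      rw [← eigenAug_pow_eq hu hχ hχp hrk ht ht', ← map_pow_range]
      exact ⟨_, (μ t).2, rfl⟩
  obtain ⟨r, hr⟩ : ∃ r : R, algebraMap R (TensorAlgebra R I₁) r = (μ 0 : TensorAlgebra R I₁) := by
    have h := (μ 0).2
    simp only [pow_zero, Submodule.mem_one] at h
    exact h
  have hr0 : r = 0 := by
    have h := congrArg (counit (R := R)) h0
    rw [map_sum, Finset.sum_eq_single 0, map_zero, ← hr, AlgHom.commutes, Bialgebra.counit_algebraMap] at h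
    · exact h
    · intro t ht ht0
      exact (mem_eigenAug.1 (hmem t (Nat.pos_of_ne_zero ht0) (by have := Finset.mem_range.1 ht; omega))).1
    · simp [hp'.out.ne_zero]
  have hμ : ∀ t ∈ Finset.range p, (μ t : TensorAlgebra R I₁) = 0 := by
    intro t ht
    rcases Nat.eq_zero_or_pos t with rfl | ht0
    · rw [← hr, hr0, map_zero]
    have ht' : t ≤ p - 1 := by have := Finset.mem_range.1 ht; omega
    refine injOn_pow_range hu hχ hχp hrk ht0 ht' _ (μ t).2 ?_
    have h := congrArg (fun a => (pr u χ t hid a : A)) h0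
    simp only [map_sum, map_zero, AddSubmonoidClass.coe_finsetSum, Submodule.coe_zero] at h
    rw [Finset.sum_eq_single t, pr_of_mem hid hu (hmem t ht0 ht')] at h
    · exact h
    · intro s hs hst
      rcases Nat.eq_zero_or_pos s with rfl | hs0
      · rw [← hr, hr0, map_zero, map_zero, map_zero, Submodule.coe_zero]
      · have hs' : s ≤ p - 1 := by have := Finset.mem_range.1 hs; omega
        rw [pr_of_mem_ne hid hχ ?_ (hmem s hs0 hs'), Submodule.coe_zero]
        intro hmod
        have h1 : Nat.ModEq (p - 1) t s := hmod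
        rcases lt_or_gt_of_ne hst with h2 | h2
        · have := Nat.le_of_dvd (by omega) ((Nat.modEq_iff_dvd' h2.le).1 h1.symm); omega
        · have := Nat.le_of_dvd (by omega) ((Nat.modEq_iff_dvd' h2.le).1 h1); omega
    · exact fun h => (h ht).elim
  rw [Finset.sum_eq_zero hμ, add_zero]
  exact hj

end Groth.Agent.OTLib
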