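import Groth.Agent.OTLib.Cocomm
import Mathlib.RingTheory.LocalRing.Module

/-!
# The eigenspaces are invertible modules
-/

namespace Groth.Agent.OTLib

open TensorProduct WithConv Coalgebra

universe u

variable {R : Type u} [CommRing R] {A : Type u} [CommRing A] [HopfAlgebra R A]
variable {p : ℕ} [hp' : Fact p.Prime] {u : R} {χ : (ZMod p)ˣ →* Rˣ}

/-- A group scheme of prime order `p` is killed by `p`. -/
theorem pow_prime_eq_one [Module.Finite R A] [Module.Projective R A]
    (hrk : ∀ q : PrimeSpectrum R, Module.rankAtStalk A q = p) :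
    toConv (AlgHom.id R A) ^ p = 1 := by
  have := isCocomm_of_rank_prime hp'.out hrk
  exact pow_rank_eq_one_of_isCocomm p hrk

/-- The projection onto the augmentation ideal. -/
noncomputable def aug : A →ₗ[R] A :=
  LinearMap.id - Algebra.linearMap R A ∘ₗ counit

omit hp' in
theorem aug_apply (a : A) : aug (R := R) a = a - algebraMap R A (counit a) := rfl

omit hp' in
theorem counit_aug (a : A) : counit (R := R) (aug (R := R) a) = 0 := by
  rw [aug_apply, map_sub, Bialgebra.counit_algebraMap, sub_self]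

section Proj

variable (hid : toConv (AlgHom.id R A) ^ p = 1)

/-- The projection onto an eigenspace of the augmentation ideal. -/
noncomputable def pr (u : R) (χ : (ZMod p)ˣ →* Rˣ) (i : ℕ) (hid : toConv (AlgHom.id R A) ^ p = 1) :
    A →ₗ[R] OortTate.eigenAug R A p χ i :=
  LinearMap.codRestrict _ (OortTate.proj R A p u χ i ∘ₗ aug)
    fun a => proj_mem hid i (counit_aug a)

theorem pr_apply (i : ℕ) (a : A) :
    (pr u χ i hid a : A) = OortTate.proj R A p u χ i (aug (R := R) a) := rfl

variable (hu : u * ((p - 1 : ℕ) : R) = 1)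
include hu

theorem pr_of_mem {i : ℕ} {f : A} (hf : f ∈ OortTate.eigenAug R A p χ i) :
    pr u χ i hid f = ⟨f, hf⟩ :=
  Subtype.ext (by rw [pr_apply, aug_apply, (mem_eigenAug.1 hf).1, map_zero, sub_zero, proj_eq_self hu hf])

theorem pr_comp_subtype (i : ℕ) :
    pr u χ i hid ∘ₗ (OortTate.eigenAug R A p χ i).subtype = LinearMap.id :=
  LinearMap.ext fun f => by simp [pr_of_mem hid hu f.2]

omit hu in
theorem pr_of_mem_ne (hχ : ∀ m : (ZMod p)ˣ, m ≠ 1 → IsUnit ((χ m : R) - 1)) {i j : ℕ}
    (hij : i % (p - 1) ≠ j % (p - 1)) {f : A} (hf : f ∈ OortTate.eigenAug R A p χ j) :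
    pr u χ i hid f = 0 :=
  Subtype.ext (by rw [pr_apply, aug_apply, (mem_eigenAug.1 hf).1, map_zero, sub_zero,
    proj_eq_zero hχ hij hf, Submodule.coe_zero])

theorem sum_pr (hχ : ∀ m : (ZMod p)ˣ, m ≠ 1 → IsUnit ((χ m : R) - 1)) (a : A) :
    algebraMap R A (counit a) + ∑ i ∈ Finset.range (p - 1), (pr u χ i hid a : A) = a := by
  simp only [pr_apply]
  rw [sum_proj hu hχ, aug_apply, add_sub_cancel]

include hid in
theorem finite_eigenAug [Module.Finite R A] (i : ℕ) :
    Module.Finite R (OortTate.eigenAug R A p χ i) :=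
  Module.Finite.of_surjective (pr u χ i hid) fun f => ⟨f, pr_of_mem hid hu f.2⟩

include hid in
theorem projective_eigenAug [Module.Projective R A] (i : ℕ) :
    Module.Projective R (OortTate.eigenAug R A p χ i) :=
  Module.Projective.of_split _ (pr u χ i hid) (pr_comp_subtype hid hu i)

end Proj

section BaseChange

variable (K : Type u) [CommRing K] [Algebra R K]

/-- The character with values in an algebra. -/
noncomputable abbrev chiMap (χ : (ZMod p)ˣ →* Rˣ) : (ZMod p)ˣ →* Kˣ :=
  (Units.map (algebraMap R K).toMonoidHom).comp χ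

theorem one_tmul_mem_eigenAug {i : ℕ} {f : A} (hf : f ∈ OortTate.eigenAug R A p χ i) :
    (1 : K) ⊗ₜ[R] f ∈ OortTate.eigenAug K (K ⊗[R] A) p (chiMap K χ) i := by
  rw [mem_eigenAug] at hf ⊢
  refine ⟨by simp [hf.1], fun m => ?_⟩
  rw [SGA3b.powConv, ← FinHopf.includeRight_pow' K]
  change (1 : K) ⊗ₜ[R] SGA3b.powConv R A (m : ZMod p).val f = _
  rw [hf.2, TensorProduct.tmul_smul, ← algebraMap_smul K, map_pow]
  rfl

theorem one_tmul_proj (i : ℕ) (a : A) :
    (1 : K) ⊗ₜ[R] OortTate.proj R A p u χ i a =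
      OortTate.proj K (K ⊗[R] A) p (algebraMap R K u) (chiMap K χ) i ((1 : K) ⊗ₜ[R] a) := by
  simp only [OortTate.proj, LinearMap.smul_apply, LinearMap.sum_apply, AlgHom.toLinearMap_apply,
    TensorProduct.tmul_smul, TensorProduct.tmul_sum]
  rw [← algebraMap_smul K u]
  refine congrArg _ (Finset.sum_congr rfl fun m _ => ?_)
  rw [← algebraMap_smul K, map_pow, SGA3b.powConv,
    FinHopf.includeRight_pow' K]
  rfl

theorem mem_span_one_tmul (hid : toConv (AlgHom.id R A) ^ p = 1) (hu : u * ((p - 1 : ℕ) : R) = 1) {i : ℕ}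
    {z : K ⊗[R] A} (hz : z ∈ OortTate.eigenAug K (K ⊗[R] A) p (chiMap K χ) i) :
    z ∈ Submodule.span K ((fun a => (1 : K) ⊗ₜ[R] a) '' (OortTate.eigenAug R A p χ i : Set A)) := by
  set S := Submodule.span K ((fun a => (1 : K) ⊗ₜ[R] a) '' (OortTate.eigenAug R A p χ i : Set A))
  have hu' : algebraMap R K u * ((p - 1 : ℕ) : K) = 1 := by
    rw [← map_natCast (algebraMap R K), ← map_mul, hu, map_one]
  let Q : K ⊗[R] A →ₗ[K] K ⊗[R] A :=
    OortTate.proj K (K ⊗[R] A) p (algebraMap R K u) (chiMap K χ) i ∘ₗ aug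
  have hQ : ∀ y, Q y ∈ S := by
    intro y
    induction y using TensorProduct.induction_on with
    | zero => simp
    | add y y' hy hy' => rw [map_add]; exact Submodule.add_mem _ hy hy'
    | tmul c a =>
      rw [show c ⊗ₜ[R] a = c • ((1 : K) ⊗ₜ[R] a) by rw [TensorProduct.smul_tmul', smul_eq_mul, mul_one], map_smul]
      refine Submodule.smul_mem _ _ ?_
      have h : Q ((1 : K) ⊗ₜ[R] a) = (1 : K) ⊗ₜ[R] (pr u χ i hid a : A) := by
        rw [pr_apply, one_tmul_proj]
        simp only [Q, LinearMap.comp_apply]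
        refine congrArg _ ?_
        rw [aug_apply, aug_apply, TensorProduct.tmul_sub]
        congr 1
        simp [Algebra.algebraMap_eq_smul_one, Algebra.TensorProduct.one_def, TensorProduct.smul_tmul']
      rw [h]
      exact Submodule.subset_span ⟨_, (pr u χ i hid a).2, rfl⟩
  have h := hQ z
  rwa [show Q z = z by
    simp only [Q, LinearMap.comp_apply, aug_apply, (mem_eigenAug.1 hz).1, map_zero, sub_zero]
    exact proj_eq_self hu' hz] at h

theorem span_one_tmul_eigenAug (hid : toConv (AlgHom.id R A) ^ p = 1) (hu : u * ((p - 1 : ℕ) : R) = 1)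
    (i : ℕ) :
    Submodule.span K ((fun a => (1 : K) ⊗ₜ[R] a) '' (OortTate.eigenAug R A p χ i : Set A)) =
      OortTate.eigenAug K (K ⊗[R] A) p (chiMap K χ) i :=
  le_antisymm (Submodule.span_le.2 (by rintro _ ⟨f, hf, rfl⟩; exact one_tmul_mem_eigenAug K hf))
    fun _ hz => mem_span_one_tmul K hid hu hz

end BaseChange

section Rank

variable [Module.Finite R A] [Module.Projective R A]
  (hu : u * ((p - 1 : ℕ) : R) = 1)
  (hχ : ∀ m : (ZMod p)ˣ, m ≠ 1 → IsUnit ((χ m : R) - 1))
  (hχp : ∀ m : (ZMod p)ˣ, ((χ m : Rˣ) : R) - (((m : ZMod p).val : ℕ) : R) ∈ Ideal.span ({(p : R)} : Set R))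
  (hrk : ∀ q : PrimeSpectrum R, Module.rankAtStalk A q = p)
include hu hχ hχp hrk

/-- Over a geometric point each eigenspace is spanned by a power of one element. -/
theorem exists_eigen_generator_baseChange (K : Type u) [Field K] [IsAlgClosed K] [Algebra R K] :
    ∃ x ∈ OortTate.eigenAug K (K ⊗[R] A) p (chiMap K χ) 1, ∀ t, 1 ≤ t → t ≤ p - 1 → x ^ t ≠ 0 ∧
      OortTate.eigenAug K (K ⊗[R] A) p (chiMap K χ) t = Submodule.span K {x ^ t} := by
  have hdim : Module.finrank K (K ⊗[R] A) = p := by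
    let q : PrimeSpectrum K := ⟨⊥, Ideal.isPrime_bot⟩
    have h := congrFun (Module.rankAtStalk_eq_finrank_of_free (R := K) (M := K ⊗[R] A)) q
    rw [Module.rankAtStalk_baseChange, hrk] at h
    exact h.symm
  obtain ⟨x, hx, hx'⟩ := exists_eigen_generator (k := K) (A := K ⊗[R] A) (χ := chiMap K χ)
    (u := algebraMap R K u) (by rw [← map_natCast (algebraMap R K), ← map_mul, hu, map_one])
    (fun m hm => by simpa using (hχ m hm).map (algebraMap R K))
    (fun m => by
      obtain ⟨c, hc⟩ := Ideal.mem_span_singleton'.1 (hχp m)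
      refine Ideal.mem_span_singleton'.2 ⟨algebraMap R K c, ?_⟩
      rw [← map_natCast (algebraMap R K) p, ← map_mul, hc, map_sub, map_natCast]
      rfl) hdim
  refine ⟨x, hx, fun t ht ht' => ⟨(hx' t ht ht').1, le_antisymm (hx' t ht ht').2 ?_⟩⟩
  exact Submodule.span_le.2 (Set.singleton_subset_iff.2 (pow_le_eigenAug t ht (Submodule.pow_mem_pow _ hx t)))

/-- The eigenspaces are invertible modules. -/
theorem rankAtStalk_eigenAug (i : ℕ) (q : PrimeSpectrum R) :
    Module.rankAtStalk (R := R) (OortTate.eigenAug R A p χ i) q = 1 := by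
  have hid := pow_prime_eq_one hrk
  let M := OortTate.eigenAug R A p χ i
  have := finite_eigenAug (χ := χ) hid hu i
  have := projective_eigenAug (χ := χ) hid hu i
  let K := AlgebraicClosure q.asIdeal.ResidueField
  let j : K ⊗[R] M →ₗ[K] K ⊗[R] A := M.subtype.baseChange K
  have hj : Function.Injective j := by
    refine Function.LeftInverse.injective (g := (pr u χ i hid).baseChange K) fun z => ?_
    rw [← LinearMap.comp_apply, ← LinearMap.baseChange_comp, pr_comp_subtype hid hu,
      LinearMap.baseChange_id, LinearMap.id_apply]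
  have hrange : LinearMap.range j = OortTate.eigenAug K (K ⊗[R] A) p (chiMap K χ) i := by
    rw [← span_one_tmul_eigenAug K hid hu i]
    refine le_antisymm ?_ (Submodule.span_le.2 (by rintro _ ⟨f, hf, rfl⟩; exact ⟨1 ⊗ₜ ⟨f, hf⟩, by simp [j]⟩))
    rintro _ ⟨z, rfl⟩
    induction z using TensorProduct.induction_on with
    | zero => simp
    | add y y' hy hy' => rw [map_add]; exact Submodule.add_mem _ hy hy'
    | tmul c f =>
      rw [show j (c ⊗ₜ[R] f) = c • ((1 : K) ⊗ₜ[R] (f : A)) by simp [j, TensorProduct.smul_tmul']]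
      exact Submodule.smul_mem _ _ (Submodule.subset_span ⟨f, f.2, rfl⟩)
  obtain ⟨x, -, hx⟩ := exists_eigen_generator_baseChange hu hχ hχp hrk K
  have hp1 : 0 < p - 1 := by have := hp'.out.two_le; omega
  obtain ⟨t, ht, ht', hmod⟩ : ∃ t, 1 ≤ t ∧ t ≤ p - 1 ∧ i % (p - 1) = t % (p - 1) := by
    by_cases h : i % (p - 1) = 0
    · exact ⟨p - 1, hp1, le_rfl, by rw [h, Nat.mod_self]⟩
    · exact ⟨i % (p - 1), Nat.pos_of_ne_zero h, (Nat.mod_lt _ hp1).le, (Nat.mod_mod _ _).symm⟩
  have hfin : Module.finrank K (K ⊗[R] M) = 1 := by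
    rw [(LinearEquiv.ofInjective j hj).finrank_eq, hrange, eigenAug_mod, hmod, ← eigenAug_mod,
      (hx t ht ht').2]
    exact finrank_span_singleton (hx t ht ht').1
  let qK : PrimeSpectrum K := ⟨⊥, Ideal.isPrime_bot⟩
  have hq : PrimeSpectrum.comap (algebraMap R K) qK = q := by
    refine PrimeSpectrum.ext (Ideal.ext fun r => ?_)
    change algebraMap R K r ∈ (⊥ : Ideal K) ↔ _
    rw [Ideal.mem_bot, IsScalarTower.algebraMap_apply R q.asIdeal.ResidueField K,
      map_eq_zero_iff _ (algebraMap q.asIdeal.ResidueField K).injective,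
      Ideal.algebraMap_residueField_eq_zero]
  rw [← hq, ← Module.rankAtStalk_baseChange (S := K), Module.rankAtStalk_eq_finrank_of_free]
  exact hfin

/-- The powers of the first eigenspace give all of them. -/
theorem eigenAug_pow_eq {t : ℕ} (ht : 1 ≤ t) (ht' : t ≤ p - 1) :
    OortTate.eigenAug R A p χ 1 ^ t = OortTate.eigenAug R A p χ t := by
  have hid := pow_prime_eq_one hrk
  let M := OortTate.eigenAug R A p χ t
  have := finite_eigenAug (χ := χ) hid hu t
  refine le_antisymm (pow_le_eigenAug t ht) fun f hf => ?_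
  let N : Submodule R M := (OortTate.eigenAug R A p χ 1 ^ t).comap M.subtype
  suffices hQ : Subsingleton (M ⧸ N) by
    have h0 : N.mkQ ⟨f, hf⟩ = 0 := Subsingleton.elim _ _
    rw [Submodule.mkQ_apply, Submodule.Quotient.mk_eq_zero] at h0
    exact h0
  rw [← Module.support_eq_empty_iff (R := R), Set.eq_empty_iff_forall_notMem]
  intro q hq
  rw [Module.mem_support_iff_nontrivial_residueField_tensorProduct] at hq
  let κ := q.asIdeal.ResidueField
  let K := AlgebraicClosure κ
  let Θ : K ⊗[R] A →ₗ[K] K ⊗[R] (M ⧸ N) := (N.mkQ ∘ₗ pr u χ t hid).baseChange K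
  let B : Submodule K (K ⊗[R] A) :=
    Submodule.span K ((fun a => (1 : K) ⊗ₜ[R] a) '' ((OortTate.eigenAug R A p χ 1 ^ t : Submodule R A) : Set A))
  have hB : B ≤ LinearMap.ker Θ := Submodule.span_le.2 (by
    rintro _ ⟨a, ha, rfl⟩
    have ha' := pow_le_eigenAug t ht ha
    rw [SetLike.mem_coe, LinearMap.mem_ker]
    change (1 : K) ⊗ₜ[R] N.mkQ (pr u χ t hid a) = 0
    rw [pr_of_mem hid hu ha', show N.mkQ ⟨a, ha'⟩ = 0 from (Submodule.Quotient.mk_eq_zero N).2 ha,
      TensorProduct.tmul_zero])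
  obtain ⟨x, hx, hx'⟩ := exists_eigen_generator_baseChange hu hχ hχp hrk K
  have hpow : ∀ s : ℕ, Submodule.span K ((fun a => (1 : K) ⊗ₜ[R] a) '' (OortTate.eigenAug R A p χ 1 : Set A)) ^ s ≤
      Submodule.span K ((fun a => (1 : K) ⊗ₜ[R] a) '' ((OortTate.eigenAug R A p χ 1 ^ s : Submodule R A) : Set A)) := by
    intro s
    induction s with
    | zero =>
      rw [pow_zero, pow_zero, Submodule.one_eq_span, Submodule.span_le, Set.singleton_subset_iff]
      exact Submodule.subset_span ⟨1, Submodule.one_le.1 le_rfl, rfl⟩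
    | succ s ih =>
      rw [pow_succ]
      refine (mul_le_mul' ih le_rfl).trans ?_
      rw [Submodule.span_mul_span, Submodule.span_le]
      rintro _ ⟨_, ⟨a, ha, rfl⟩, _, ⟨b, hb, rfl⟩, rfl⟩
      refine Submodule.subset_span ⟨a * b, ?_, ?_⟩
      · rw [pow_succ]; exact Submodule.mul_mem_mul ha hb
      · simp
  have hle : OortTate.eigenAug K (K ⊗[R] A) p (chiMap K χ) t ≤ B := by
    rw [(hx' t ht ht').2, Submodule.span_singleton_le_iff_mem]
    exact hpow t (Submodule.pow_mem_pow _ (mem_span_one_tmul K hid hu hx) t)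
  have hzero : ∀ z : K ⊗[R] (M ⧸ N), z = 0 := by
    intro z
    induction z using TensorProduct.induction_on with
    | zero => rfl
    | add y y' hy hy' => rw [hy, hy', add_zero]
    | tmul c m =>
      obtain ⟨g, rfl⟩ := N.mkQ_surjective m
      have h := hB (hle (one_tmul_mem_eigenAug K g.2))
      rw [LinearMap.mem_ker] at h
      change (1 : K) ⊗ₜ[R] N.mkQ (pr u χ t hid (g : A)) = 0 at h
      rw [pr_of_mem hid hu g.2] at h
      rw [show c ⊗ₜ[R] N.mkQ g = c • ((1 : K) ⊗ₜ[R] N.mkQ g) by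
        rw [TensorProduct.smul_tmul', smul_eq_mul, mul_one], h, smul_zero]
  have hsub : Subsingleton (K ⊗[R] (M ⧸ N)) := ⟨fun a b => by rw [hzero a, hzero b]⟩
  have h1 : Module.finrank κ (κ ⊗[R] (M ⧸ N)) = 0 := by
    rw [← Module.finrank_baseChange (R := K) (S := κ),
      (TensorProduct.AlgebraTensorModule.cancelBaseChange R κ K K (M ⧸ N)).finrank_eq]
    exact Module.finrank_zero_of_subsingleton
  exact not_nontrivial_iff_subsingleton.2 (Module.finrank_zero_iff.1 h1) hq

end Rank

end Groth.Agent.OTLib
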